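import Cfsg.Agent.Lib.KnownA.NormalCover.Sp6.Models

/-!
# Isometries of six dimensional symplectic spaces in characteristic three
-/

set_option autoImplicit false
set_option linter.unusedSectionVars false

open Module Polynomial

namespace CfsgLib.KnownA.NormalCover.Sp6

open CfsgLib.Classical

variable {F : Type*} [Field F] [Fintype F] {V : Type*} [AddCommGroup V] [Module F V] [FiniteDimensional F V]
  {B : V →ₗ[F] V →ₗ[F] F} {G Gi : Module.End F V} {φ : F[X]}

theorem two_ne_zero_of (h3 : (3 : F) = 0) : (2 : F) ≠ 0 :=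
  fun e => one_ne_zero (α := F) (by linear_combination h3 - e)

theorem perp_finrank (hN : B.Nondegenerate) (U : Submodule F V) :
    finrank F (perp B U) = finrank F V - finrank F U := by
  have h : perp B U = LinearMap.BilinForm.orthogonal B U := by ext x; exact mem_perp
  rw [h]
  exact LinearMap.BilinForm.finrank_orthogonal hN U

theorem semi_of_cyclic (hA : B.IsAlt) (h3 : (3 : F) = 0) (hV : finrank F V = 6) (h : IsPair B G Gi)
    (hφ : Irreducible φ) (hd : φ.natDegree = 3) {c : F} {N : Module.End F V}
    (hN : N = G + Gi - algebraMap F _ c) (hN3 : N ^ 3 = 0) {x : V} (hν : B ((N ^ 2) x) (G x) ≠ 0) :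
    Semi B φ G := by
  haveI := Fact.mk hφ
  have h2 := two_ne_zero_of h3
  obtain ⟨v, hv, hva⟩ := exists_cyclic_frame hA h2 h hN hN3 rfl hν
  obtain ⟨G', Gi', N', x', hp', hN', hN3', hν', hs'⟩ := exists_model_cyclic hd h3 c (B ((N ^ 2) x) (G x))
  obtain ⟨v', hv', hva'⟩ := exists_cyclic_frame modelForm_isAlt h2 hp' hN' hN3' hν' hν
  have hM : finrank F (Fin 2 → AdjoinRoot φ) = 6 := by
    rw [Module.finrank_pi_fintype]
    simp [finrank_model hd]
  obtain ⟨e, he, heg⟩ := exists_isometry_of_frame v v' (by rw [hV]; rfl) (by rw [hM]; rfl)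
    (fun i j => by rw [hv, hv']) (fun a ha => gramCyc_det hν a fun j => by simpa [hv] using ha j)
    (g := G) (g' := G') fun i => ⟨_, hva i, hva' i⟩
  exact semi_transport e he heg hs'

theorem semi_of_pair (hA : B.IsAlt) (hB : B.Nondegenerate) (h3 : (3 : F) = 0) (hV : finrank F V = 6)
    (h : IsPair B G Gi) (hφ : Irreducible φ) (hd : φ.natDegree = 3) {ε : F} (hε : ε * ε = 1) {n : Module.End F V}
    (hn : n = ε • G - 1) (hn3 : n ^ 3 = 0) (hn2 : n ^ 2 ≠ 0) : Semi B φ G := by
  haveI := Fact.mk hφ
  obtain ⟨v, hv, hva⟩ := exists_pair_frame hA hB h3 hV h hε hn hn3 hn2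
  obtain ⟨G', Gi', n', hp', hn', hn3', hn2', hs'⟩ := exists_model_pair (φ := φ) hd h3 hε
  have hM : finrank F (Fin 2 → AdjoinRoot φ) = 6 := by
    rw [Module.finrank_pi_fintype]
    simp [finrank_model hd]
  obtain ⟨v', hv', hva'⟩ := exists_pair_frame modelForm_isAlt modelForm_nondegenerate h3 hM hp' hε hn' hn3' hn2'
  obtain ⟨e, he, heg⟩ := exists_isometry_of_frame v v' (by rw [hV]; rfl) (by rw [hM]; rfl)
    (fun i j => by rw [hv, hv']) (fun a ha => gramPair_det a fun j => by simpa [hv] using ha j)
    (g := G) (g' := G') fun i => ⟨_, hva i, hva' i⟩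
  exact semi_transport e he heg hs'

theorem even_of_nondegOn (hA : B.IsAlt) {W : Submodule F V} (hW : NondegOn B W) : ∃ m, finrank F W = 2 * m := by
  obtain ⟨m, b, -⟩ := exists_sympBasis (restrictForm_isAlt hA W) (restrictForm_nondegenerate hA.isRefl hW)
  exact ⟨m, by rw [Module.finrank_eq_card_basis b, Fintype.card_sum, Fintype.card_fin, two_mul]⟩

theorem dec_of_coprime (hA : B.IsAlt) (hB : B.Nondegenerate) (hV : finrank F V = 6) (h : IsPair B G Gi)
    {T : Module.End F V} (hT : SelfAdj B T) (hGT : Commute G T) {a b : F[X]} (hab : IsCoprime a b)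
    (h0 : aeval T (a * b) = 0) (ha : aeval T a ≠ 0) (hb : aeval T b ≠ 0) : Dec B G := by
  obtain ⟨u, v, huv⟩ := hab
  set W := LinearMap.ker (aeval T a)
  have hid : ∀ x, x = aeval T (u * a) x + aeval T (v * b) x := fun x => by
    rw [← LinearMap.add_apply, ← map_add, huv, map_one, Module.End.one_apply]
  have horth : ∀ x ∈ W, ∀ y, aeval T b y = 0 → B x y = 0 := fun x hx y hy => by
    rw [hid x, map_mul, Module.End.mul_apply, show aeval T a x = 0 from hx, map_zero, zero_add, mul_comm, map_mul,
      Module.End.mul_apply, (hT.aeval b), hy, map_zero]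
  have hcomp : ∀ y, aeval T b (aeval T (u * a) y) = 0 := fun y => by
    rw [← Module.End.mul_apply, ← map_mul, show b * (u * a) = u * (a * b) by ring, map_mul, h0, mul_zero]
    rfl
  have hcomp' : ∀ y, aeval T (v * b) y ∈ W := fun y => by
    show aeval T a (aeval T (v * b) y) = 0
    rw [← Module.End.mul_apply, ← map_mul, show a * (v * b) = v * (a * b) by ring, map_mul, h0, mul_zero]
    rfl
  have hnd : NondegOn B W := nondegOn_iff.2 fun x hx hxw => hB.2 x fun y => by
    rw [hid y, map_add, LinearMap.add_apply, hxw _ (hcomp' y), add_zero]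
    exact hA.isRefl _ _ (horth x hx _ (hcomp y))
  obtain ⟨m, hm⟩ := even_of_nondegOn hA hnd
  have hne : W ≠ ⊤ := fun e => ha (LinearMap.ext fun x => by
    have : x ∈ W := e ▸ Submodule.mem_top
    exact this)
  have hnb : W ≠ ⊥ := fun e => hb (LinearMap.ext fun x => by
    have h1 : aeval T b x ∈ W := by
      show aeval T a (aeval T b x) = 0
      rw [← Module.End.mul_apply, ← map_mul, h0]
      rfl
    rwa [e, Submodule.mem_bot] at h1)
  have h1 : finrank F W < 6 := hV ▸ Submodule.finrank_lt hne
  have h2 : finrank F W ≠ 0 := fun e => hnb (Submodule.finrank_eq_zero.1 e)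
  refine ⟨W, by omega, hnd, fun x hx => ?_⟩
  have hc : Commute G (aeval T a) :=
    Algebra.commute_of_mem_adjoin_singleton_of_commute (aeval_mem_adjoin_singleton F T) hGT
  show aeval T a (G x) = 0
  rw [← Module.End.mul_apply, ← hc.eq, Module.End.mul_apply, show aeval T a x = 0 from hx, map_zero]

theorem degree_bound (hA : B.IsAlt) (hB : B.Nondegenerate) (h2 : (2 : F) ≠ 0) (hV : finrank F V = 6)
    {T : Module.End F V} (hT : SelfAdj B T) {p : F[X]} (hp : Irreducible p) {k : ℕ} (hm : aeval T (p ^ k) = 0)
    (hk : aeval T (p ^ (k - 1)) ≠ 0) : (p ^ k).natDegree ≤ 3 := by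
  classical
  obtain ⟨x, hx⟩ : ∃ x, aeval T (p ^ (k - 1)) x ≠ 0 := by
    by_contra hall
    push Not at hall
    exact hk (LinearMap.ext hall)
  set D := (p ^ k).natDegree
  let L : (Fin D → F) →ₗ[F] V := Fintype.linearCombination F fun i => (T ^ (i : ℕ)) x
  have hL : ∀ c, L c = aeval T (∑ i : Fin D, C (c i) * X ^ (i : ℕ)) x := fun c => by
    simp [L, Fintype.linearCombination_apply, map_sum]
  have hinj : Function.Injective L := by
    refine (injective_iff_map_eq_zero _).2 fun c hc => funext fun j => ?_
    set Q := ∑ i : Fin D, C (c i) * X ^ (i : ℕ)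
    rw [hL] at hc
    have hdvd : p ^ k ∣ Q := by
      by_contra hnd
      obtain ⟨j, hj, hassoc⟩ := (dvd_prime_pow hp.prime k).1 (EuclideanDomain.gcd_dvd_left (p ^ k) Q)
      have hjk : j ≤ k - 1 := by
        rcases Nat.lt_or_ge j k with hlt | hge
        · omega
        · exfalso
          obtain rfl : j = k := le_antisymm hj hge
          exact hnd (hassoc.symm.dvd.trans (EuclideanDomain.gcd_dvd_right _ _))
      refine hx ?_
      have h0 : aeval T (EuclideanDomain.gcd (p ^ k) Q) x = 0 := by
        rw [EuclideanDomain.gcd_eq_gcd_ab, map_add, LinearMap.add_apply, mul_comm (p ^ k), mul_comm Q, map_mul, map_mul,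
          Module.End.mul_apply, Module.End.mul_apply, hm, hc]
        simp
      obtain ⟨s, hs⟩ := hassoc.dvd.trans (pow_dvd_pow p hjk)
      rw [hs, mul_comm, map_mul, Module.End.mul_apply, h0, map_zero]
    have h0 : Q = 0 := by
      refine eq_zero_of_dvd_of_degree_lt hdvd ?_
      rw [degree_eq_natDegree (pow_ne_zero _ hp.ne_zero)]
      exact degree_sum_fin_lt c
    have h := congrArg (fun r : F[X] => r.coeff j) h0
    simpa [Q, finsetSum_coeff, coeff_X_pow, Fin.val_inj] using h
  have hR : LinearMap.range L ≤ perp B (LinearMap.range L) := by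
    rintro _ ⟨c, rfl⟩
    refine mem_perp.2 ?_
    rintro _ ⟨c', rfl⟩
    rw [hL, hL, ← (hT.aeval _), ← Module.End.mul_apply, ← map_mul]
    exact (hT.aeval _).apply_self hA h2 x
  have h1 := Submodule.finrank_mono hR
  rw [perp_finrank hB, LinearMap.finrank_range_of_inj hinj, Module.finrank_fin_fun, hV] at h1
  omega

theorem no_quadratic_root (hA : B.IsAlt) (hB : B.Nondegenerate) (h2 : (2 : F) ≠ 0) (hV : finrank F V = 6)
    {T : Module.End F V} (hT : SelfAdj B T) {p : F[X]} (hp : Irreducible p) (hd : p.natDegree = 2) :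
    aeval T p ≠ 0 := by
  classical
  intro h0
  haveI : Nontrivial V := Module.nontrivial_of_finrank_pos (R := F) (by omega)
  obtain ⟨x, hx⟩ := exists_ne (0 : V)
  obtain ⟨y, hxy⟩ := alt_exists_partner hB.1 hx
  have sep : ∀ (r : F[X]) (z : V), z ≠ 0 → aeval T r z = 0 → p ∣ r := by
    intro r z hz hr
    by_contra hnd
    obtain ⟨a, b, hab⟩ := hp.coprime_iff_not_dvd.2 hnd
    refine hz ?_
    have := congrArg (fun s : F[X] => aeval T s z) hab
    simpa [h0, hr, Module.End.mul_apply] using this.symm
  have ind : ∀ z : V, z ≠ 0 → ∀ a b : F, a • z + b • T z = 0 → a = 0 ∧ b = 0 := by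
    intro z hz a b hab
    have hdvd := sep (C b * X + C a) z hz (by simp [add_comm, ← hab])
    have h := eq_zero_of_dvd_of_degree_lt hdvd (by
      rw [degree_eq_natDegree hp.ne_zero, hd]
      exact lt_of_le_of_lt degree_linear_le (by decide))
    exact ⟨by simpa using congrArg (fun r : F[X] => r.coeff 0) h, by simpa using congrArg (fun r : F[X] => r.coeff 1) h⟩
  have hzz : ∀ z, B (T z) z = 0 := hT.apply_self hA h2
  have hTT : ∀ z, ∃ a b : F, T (T z) = a • z + b • T z := fun z => by
    refine ⟨-(p.coeff 0 / p.coeff 2), -(p.coeff 1 / p.coeff 2), ?_⟩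
    have h := LinearMap.congr_fun h0 z
    rw [aeval_eq_sum_range, hd, Finset.sum_range_succ, Finset.sum_range_succ, Finset.sum_range_one] at h
    simp only [LinearMap.add_apply, LinearMap.smul_apply, pow_zero, pow_one, pow_two, Module.End.mul_apply,
      Module.End.one_apply, LinearMap.zero_apply] at h
    have hc2 : p.coeff 2 ≠ 0 := by rw [← hd]; exact leadingCoeff_ne_zero.2 hp.ne_zero
    refine smul_right_injective V hc2 ?_
    show p.coeff 2 • T (T z) = p.coeff 2 • _
    rw [smul_add, smul_smul, smul_smul, mul_neg, mul_neg, mul_div_cancel₀ _ hc2, mul_div_cancel₀ _ hc2]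
    linear_combination (norm := module) h
  set S := Submodule.span F {x, T x} ⊔ Submodule.span F {y, T y}
  have hpair : ∀ z : V, z ≠ 0 → finrank F (Submodule.span F ({z, T z} : Set V)) = 2 := fun z hz => by
    have hli : LinearIndependent F ![z, T z] := LinearIndependent.pair_iff.2 (ind z hz)
    rw [← finrank_span_eq_card hli |>.trans (Fintype.card_fin 2), Matrix.range_cons, Matrix.range_cons,
      Matrix.range_empty, Set.union_empty, Set.singleton_union]
  have hinvp : ∀ z w : V, w ∈ Submodule.span F {z, T z} → T w ∈ Submodule.span F {z, T z} := fun z w hw => by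
    obtain ⟨a, b, rfl⟩ := Submodule.mem_span_pair.1 hw
    obtain ⟨a', b', e⟩ := hTT z
    refine Submodule.mem_span_pair.2 ⟨b * a', a + b * b', ?_⟩
    rw [map_add, map_smul, map_smul, e]
    module
  have hSd : finrank F S ≤ 4 := (Submodule.finrank_add_le_finrank_add_finrank _ _).trans (by
    rw [hpair x hx, hpair y (fun e => by simp [e] at hxy)])
  have hSn : NondegOn B S := nondegOn_iff.2 fun z hz hzw => by
    obtain ⟨z1, hz1, z2, hz2, rfl⟩ := Submodule.mem_sup.1 hz
    obtain ⟨a, b, rfl⟩ := Submodule.mem_span_pair.1 hz1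
    obtain ⟨c, d, rfl⟩ := Submodule.mem_span_pair.1 hz2
    have mx : ∀ r : F[X], aeval T r x ∈ S := fun r => by
      induction r using Polynomial.induction_on with
      | C s => simpa using Submodule.mem_sup_left (Submodule.smul_mem _ s (Submodule.mem_span_of_mem (by simp)))
      | add r s hr hs => rw [map_add, LinearMap.add_apply]; exact add_mem hr hs
      | monomial i s ih =>
        rw [pow_succ, ← mul_assoc, mul_comm, map_mul, aeval_X, Module.End.mul_apply]
        obtain ⟨w1, hw1, w2, hw2, e⟩ := Submodule.mem_sup.1 ih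
        rw [← e, map_add]
        exact Submodule.add_mem_sup (hinvp x w1 hw1) (hinvp y w2 hw2)
    have hwx : ∀ r : F[X], B (aeval T r x) x = 0 ∧ B (aeval T r x) (T x) = 0 := fun r => by
      refine ⟨(hT.aeval r).apply_self hA h2 x, ?_⟩
      rw [← hT, ← Module.End.mul_apply]
      have := (hT.aeval (X * r)).apply_self hA h2 x
      rwa [map_mul, aeval_X] at this
    -- the coefficient along `y` is an invertible element of the field unless it vanishes
    have hb0 : aeval T (C d * X + C c) y = 0 := by
      by_contra hne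
      have hnd : ¬ p ∣ (C d * X + C c) := fun hdv => hne (by
        obtain ⟨s, hs⟩ := hdv
        rw [hs, map_mul, h0, zero_mul]; rfl)
      obtain ⟨u, v, huv⟩ := hp.coprime_iff_not_dvd.2 hnd
      have hw := hzw _ (mx v)
      have h5 : aeval T (v * (C d * X + C c)) y = y := by
        have := congrArg (fun s : F[X] => aeval T s y) huv
        simpa [h0, Module.End.mul_apply] using this
      have h6 : B (aeval T v x) (c • y + d • T y) = 1 := by
        rw [show c • y + d • T y = aeval T (C d * X + C c) y by simp [add_comm], hT.aeval v, ← Module.End.mul_apply,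
          ← map_mul, h5, hxy]
      rw [map_add, map_add, map_smul, map_smul, (hwx v).1, (hwx v).2, smul_zero, smul_zero, zero_add, zero_add, h6] at hw
      exact one_ne_zero hw
    obtain ⟨hc, hd'⟩ := ind y (fun e => by simp [e] at hxy) c d (by simpa [add_comm] using hb0)
    subst hc hd'
    simp only [zero_smul, add_zero] at hzw ⊢
    have h1 := hzw y (Submodule.mem_sup_right (Submodule.mem_span_of_mem (by simp)))
    have h2' := hzw (T y) (Submodule.mem_sup_right (Submodule.mem_span_of_mem (by simp)))
    by_contra hne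
    have hnd : ¬ p ∣ (C b * X + C a) := fun hdv => hne (by
      obtain ⟨s, hs⟩ := hdv
      have : aeval T (C b * X + C a) x = 0 := by rw [hs, map_mul, h0, zero_mul]; rfl
      simpa [add_comm] using this)
    obtain ⟨u, v, huv⟩ := hp.coprime_iff_not_dvd.2 hnd
    have h5 : aeval T v (aeval T (C b * X + C a) x) = x := by
      have := congrArg (fun s : F[X] => aeval T s x) huv
      simpa [h0, Module.End.mul_apply] using this
    have hmem : ∀ r : F[X], aeval T r y ∈ Submodule.span F {y, T y} := fun r => by
      induction r using Polynomial.induction_on with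
      | C s => simpa using Submodule.smul_mem _ s (Submodule.mem_span_of_mem (by simp : y ∈ ({y, T y} : Set V)))
      | add r s hr hs => rw [map_add, LinearMap.add_apply]; exact add_mem hr hs
      | monomial i s ih =>
        rw [pow_succ, ← mul_assoc, mul_comm, map_mul, aeval_X, Module.End.mul_apply]
        exact hinvp y _ ih
    have h7 : ∀ r : F[X], B (aeval T r y) (a • x + b • T x) = 0 := fun r => by
      obtain ⟨s1, s2, hs12⟩ := Submodule.mem_span_pair.1 (hmem r)
      rw [← hs12]
      simp only [map_add, map_smul, LinearMap.add_apply, LinearMap.smul_apply] at h1 h2' ⊢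
      linear_combination (norm := (simp only [smul_eq_mul]; ring)) s1 * h1 + s2 * h2'
    have h8 := h7 v
    rw [hT.aeval v, show a • x + b • T x = aeval T (C b * X + C a) x by simp [add_comm], h5, alt_swap hA, hxy,
      neg_eq_zero] at h8
    exact one_ne_zero h8
  have hP := hSn.finrank_perp
  obtain ⟨z, hz, hz0⟩ : ∃ z ∈ perp B S, z ≠ 0 := by
    refine (Submodule.ne_bot_iff _).1 fun e => ?_
    rw [e, finrank_bot] at hP
    omega
  have hSinv : ∀ w ∈ S, T w ∈ S := fun w hw => by
    obtain ⟨w1, hw1, w2, hw2, e⟩ := Submodule.mem_sup.1 hw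
    rw [← e, map_add]
    exact Submodule.add_mem_sup (hinvp x w1 hw1) (hinvp y w2 hw2)
  obtain ⟨m, hm⟩ := even_of_nondegOn hA hSn
  have hle : Submodule.span F {z, T z} ≤ perp B S := by
    rw [Submodule.span_le]
    rintro _ (rfl | rfl)
    · exact hz
    · exact mem_perp.2 fun w hw => by rw [← hT]; exact mem_perp.1 hz _ (hSinv w hw)
  have h4 : 4 ≤ finrank F S := by
    have hxS : Submodule.span F {x, T x} ≤ S := le_sup_left
    have h1 := Submodule.finrank_mono hxS
    rw [hpair x hx] at h1
    rcases Nat.eq_or_lt_of_le h1 with e | e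
    · exfalso
      have heq := Submodule.eq_of_le_of_finrank_eq hxS (by rw [hpair x hx, ← e])
      refine hx (nondegOn_iff.1 hSn x (hxS (Submodule.mem_span_of_mem (by simp))) fun w hw => ?_)
      rw [← heq] at hw
      obtain ⟨s, t, rfl⟩ := Submodule.mem_span_pair.1 hw
      simp [hzz, hA x]
    · omega
  have heq : Submodule.span F {z, T z} = perp B S :=
    Submodule.eq_of_le_of_finrank_eq hle (by rw [hpair z hz0]; omega)
  refine hz0 (nondegOn_iff.1 (nondegOn_perp hB.2 hSn) z hz fun w hw => ?_)
  rw [← heq] at hw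
  obtain ⟨s, t, rfl⟩ := Submodule.mem_span_pair.1 hw
  simp [hzz, hA z]

/-- The case of a scalar `g + g⁻¹`. -/
theorem dec_of_scalar (hA : B.IsAlt) (hB : B.Nondegenerate) (h2 : (2 : F) ≠ 0) (hV : finrank F V = 6)
    (h : IsPair B G Gi) {c : F} (hc : ∀ z, G (G z) = c • G z - z) (hc' : ∀ z, G z + Gi z = c • z) : Dec B G := by
  by_cases hx : ∃ x, B x (G x) ≠ 0
  · obtain ⟨x, hx⟩ := hx
    have h1 : B x ((B x (G x))⁻¹ • G x) = 1 := by rw [map_smul, smul_eq_mul, inv_mul_cancel₀ hx]
    refine ⟨_, Or.inl (finrank_pair hA h1), nondegOn_pair hA h1, fun w hw => ?_⟩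
    obtain ⟨a, b, rfl⟩ := Submodule.mem_span_pair.1 hw
    set t := (B x (G x))⁻¹
    have ht : t ≠ 0 := inv_ne_zero hx
    refine Submodule.mem_span_pair.2 ⟨-(b * t), a / t + b * c, ?_⟩
    rw [map_add, map_smul, map_smul, map_smul, hc, smul_sub, smul_sub, smul_smul, smul_smul, smul_smul, smul_smul,
      add_mul, div_mul_cancel₀ _ ht, add_smul, neg_smul, mul_right_comm b c t]
    abel
  push Not at hx
  have hGG : ∀ y, G y = Gi y := fun y => by
    rw [← sub_eq_zero]
    refine hB.2 _ fun x => ?_
    have e := hx (x + y)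
    simp only [map_add, LinearMap.add_apply, hx x, hx y, zero_add, add_zero] at e
    rw [alt_swap hA y (G x), h.adj] at e
    rw [map_sub, sub_eq_zero]
    linear_combination e
  haveI : Nontrivial V := Module.nontrivial_of_finrank_pos (R := F) (by omega)
  obtain ⟨x, hx0⟩ := exists_ne (0 : V)
  obtain ⟨y, hxy⟩ := alt_exists_partner hB.1 hx0
  refine ⟨_, Or.inl (finrank_pair hA hxy), nondegOn_pair hA hxy, fun w hw => ?_⟩
  have e := hc' w
  rw [← hGG, ← two_smul F] at e
  rw [show G w = ((2 : F)⁻¹ * c) • w by rw [← smul_smul, ← e, smul_smul, inv_mul_cancel₀ h2, one_smul]]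
  exact Submodule.smul_mem _ _ hw

theorem dec_or_semi_of_square (hA : B.IsAlt) (hB : B.Nondegenerate) (h3 : (3 : F) = 0) (hV : finrank F V = 6)
    (h : IsPair B G Gi) (hφ : Irreducible φ) (hd : φ.natDegree = 3) {c : F} {N : Module.End F V}
    (hN : N = G + Gi - algebraMap F _ c) (hN2 : N ^ 2 = 0) (hN1 : N ≠ 0) : Dec B G ∨ Semi B φ G := by
  classical
  have h2 := two_ne_zero_of h3
  have hsa : SelfAdj B N := by
    intro a b
    have e := h.selfAdj_add a b
    simp only [LinearMap.add_apply, map_add] at e
    rw [hN]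
    simp [e]
  have hcm : Commute G N := by
    rw [hN]; exact h.commute.sub_right (Algebra.commute_algebraMap_right c G)
  have hNG : ∀ z, N (G z) = G (N z) := fun z => (LinearMap.congr_fun hcm.eq z).symm
  have hNN : ∀ z, N (N z) = 0 := fun z => by
    have := LinearMap.congr_fun hN2 z
    simpa [pow_succ] using this
  have hsq : ∀ z, G (G z) = c • G z + N (G z) - z := fun z => by
    rw [hN]
    simp only [LinearMap.sub_apply, LinearMap.add_apply, Module.algebraMap_end_apply,
      show Gi (G z) = z from LinearMap.congr_fun h.inv_mul z]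
    abel
  by_cases hx : ∃ x, B (N x) (G x) ≠ 0
  · left
    obtain ⟨x, hx⟩ := hx
    set b := B (N x) (G x)
    let v : Fin 4 → V := ![x, G x, N x, N (G x)]
    set W := Submodule.span F (Set.range v) with hW
    have m : ∀ i, v i ∈ W := fun i => Submodule.subset_span ⟨i, rfl⟩
    have g00 : B x x = 0 := hA x
    have g11 : B (G x) (G x) = 0 := hA _
    have g02 : B x (N x) = 0 := by rw [← hsa]; exact hsa.apply_self hA h2 x
    have g13 : B (G x) (N (G x)) = 0 := by rw [← hsa]; exact hsa.apply_self hA h2 _
    have g03 : B x (N (G x)) = b := (hsa _ _).symm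
    have g12 : B (G x) (N x) = -b := alt_swap hA _ _
    have g23 : B (N x) (N (G x)) = 0 := by rw [← hsa, hNN, map_zero, LinearMap.zero_apply]
    have g22 : B (N x) (N x) = 0 := hA _
    have g33 : B (N (G x)) (N (G x)) = 0 := hA _
    set b0 := B x (G x) with hb0
    have g01 : B x (G x) = b0 := rfl
    have g10 : B (G x) x = -b0 := alt_swap hA _ _
    have key : ∀ a : Fin 4 → F, (∀ j, B (v j) (∑ i, a i • v i) = 0) → a = 0 := by
      intro a ha
      have e := fun j => ha j
      simp only [v, Fin.sum_univ_four, map_add, map_smul, smul_eq_mul, Matrix.cons_val] at e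
      have e0 := e 0
      have e1 := e 1
      have e2 := e 2
      have e3 := e 3
      simp [g00, g11, g02, g13, g03, g12, g23, g22, g33, g01, g10, alt_swap hA (N x) x,
        alt_swap hA (N (G x)) x, alt_swap hA (N (G x)) (G x), alt_swap hA (N (G x)) (N x),
        show B (N x) (G x) = b from rfl] at e0 e1 e2 e3
      have a1 : a 1 = 0 := by simpa [hx] using e2
      have a0 : a 0 = 0 := by simpa [hx] using e3
      have a3 : a 3 = 0 := by simpa [hx, a1] using e0
      have a2 : a 2 = 0 := by simpa [hx, a0] using e1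
      funext i
      fin_cases i <;> assumption
    refine ⟨W, Or.inr ?_, nondegOn_iff.2 fun z hz hzw => ?_, fun z hz => ?_⟩
    · refine (finrank_span_eq_card ?_).trans (Fintype.card_fin 4)
      exact Fintype.linearIndependent_iff.2 fun a ha => congrFun (key a fun j => by rw [ha, map_zero])
    · obtain ⟨a, rfl⟩ := Submodule.mem_span_range_iff_exists_fun F |>.1 hz
      rw [key a fun j => hzw _ (m j)]
      simp
    · induction hz using Submodule.span_induction with
      | mem z hz =>
        obtain ⟨i, rfl⟩ := hz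
        fin_cases i
        · exact m 1
        · show G (G x) ∈ W
          rw [hsq]; exact sub_mem (add_mem (Submodule.smul_mem _ _ (m 1)) (m 3)) (m 0)
        · show G (N x) ∈ W
          rw [← hNG]; exact m 3
        · show G (N (G x)) ∈ W
          rw [← hNG, hsq]
          simp only [map_sub, map_add, map_smul, hNN, add_zero]
          exact sub_mem (Submodule.smul_mem _ _ (m 3)) (m 2)
      | zero => simp
      | add a b _ _ ha hb => rw [map_add]; exact add_mem ha hb
      | smul a b _ hb => rw [map_smul]; exact Submodule.smul_mem _ _ hb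
  right
  push Not at hx
  have hNi : ∀ y, N (G y) = N (Gi y) := fun y => by
    rw [← sub_eq_zero]
    refine hB.2 _ fun x => ?_
    have e := hx (x + y)
    simp only [map_add, LinearMap.add_apply, hx x, hx y, zero_add, add_zero] at e
    have e2 : B (N y) (G x) = - B x (N (Gi y)) := by
      rw [alt_swap hA, h.adj]
      have hc' : Gi (N y) = N (Gi y) := by
        have := congrArg (fun f : Module.End F V => f y) (show Commute Gi N by
          rw [hN]
          exact ((Commute.add_right (h.inv_mul.trans h.mul_inv.symm) (Commute.refl Gi)).sub_right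
            (Algebra.commute_algebraMap_right c Gi))).eq
        simpa using this
      rw [hc']
    rw [e2] at e
    rw [hsa] at e
    rw [map_sub, sub_eq_zero]
    linear_combination e
  have hcNG : ∀ y, c • N (G y) = (2 : F) • N y := fun y => by
    have e := congrArg N (hsq y)
    simp only [map_sub, map_add, map_smul, hNN, add_zero] at e
    have e' : N (G (G y)) = N y := by
      rw [hNi (G y), show Gi (G y) = y from LinearMap.congr_fun h.inv_mul y]
    rw [e'] at e
    rw [two_smul]
    exact eq_add_of_sub_eq e.symm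
  obtain ⟨y, hy⟩ : ∃ y, N y ≠ 0 := by
    by_contra hall
    push Not at hall
    exact hN1 (LinearMap.ext hall)
  have hc0 : c ≠ 0 := fun e => by
    have := hcNG y
    rw [e, zero_smul] at this
    exact smul_ne_zero h2 hy this.symm
  set ε := c / 2 with hεdef
  have hcε : c = 2 * ε := by rw [hεdef, mul_div_cancel₀ _ h2]
  have hNε : ∀ z, N (G z) = ε⁻¹ • N z := fun z => by
    refine smul_right_injective V hc0 ?_
    show c • N (G z) = c • ε⁻¹ • N z
    rw [hcNG, smul_smul, hεdef, inv_div, mul_div_cancel₀ _ hc0]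
  have hε : ε * ε = 1 := by
    have e : N (G (G y)) = N y := by
      rw [hNi (G y), show Gi (G y) = y from LinearMap.congr_fun h.inv_mul y]
    rw [hNε, hNε, smul_smul] at e
    have h1 : ε⁻¹ * ε⁻¹ = 1 := smul_left_injective F hy (e.trans (one_smul F _).symm)
    rw [← mul_inv, inv_eq_one] at h1
    exact h1
  have hn2 : ∀ z, (ε • G - 1) ((ε • G - 1) z) = N (G z) := fun z => by
    simp only [LinearMap.sub_apply, LinearMap.smul_apply, Module.End.one_apply, map_sub, map_smul, smul_sub, smul_smul,
      hε, one_smul, hsq, hcε]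
    module
  refine semi_of_pair hA hB h3 hV h hφ hd hε rfl (LinearMap.ext fun z => ?_) fun e0 => ?_
  · simp only [pow_succ, pow_zero, one_mul, Module.End.mul_apply]
    rw [hn2, LinearMap.sub_apply, LinearMap.smul_apply, Module.End.one_apply, map_sub, map_smul, map_sub, map_smul,
      hNε (G z), smul_smul, mul_inv_cancel₀ (fun e => by simp [e] at hε), one_smul, sub_self]
    rfl
  · have := LinearMap.congr_fun e0 y
    rw [pow_two, Module.End.mul_apply, hn2, hNε, LinearMap.zero_apply] at this
    exact smul_ne_zero (inv_ne_zero (fun e => by simp [e] at hε)) hy this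

theorem semi_of_cube (hA : B.IsAlt) (hB : B.Nondegenerate) (h3 : (3 : F) = 0) (hV : finrank F V = 6)
    (h : IsPair B G Gi) (hφ : Irreducible φ) (hd : φ.natDegree = 3) {c : F} {N : Module.End F V}
    (hN : N = G + Gi - algebraMap F _ c) (hN3 : N ^ 3 = 0) (hN2 : N ^ 2 ≠ 0) : Semi B φ G := by
  classical
  have h2 := two_ne_zero_of h3
  by_cases hx : ∃ x, B ((N ^ 2) x) (G x) ≠ 0
  · obtain ⟨x, hx⟩ := hx
    exact semi_of_cyclic hA h3 hV h hφ hd hN hN3 hx
  exfalso
  push Not at hx
  have hsa : SelfAdj B N := by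
    intro a b
    have e := h.selfAdj_add a b
    simp only [LinearMap.add_apply, map_add] at e
    rw [hN]
    simp [e]
  have hsa2 : SelfAdj B (N ^ 2) := by rw [← aeval_X_pow (R := F) N]; exact hsa.aeval _
  have hcm : Commute G (N ^ 2) := by
    rw [hN]; exact (h.commute.sub_right (Algebra.commute_algebraMap_right c G)).pow_right 2
  set M := N ^ 2
  have hMi : ∀ y, M (G y) = M (Gi y) := fun y => by
    rw [← sub_eq_zero]
    refine hB.2 _ fun x => ?_
    have e := hx (x + y)
    simp only [map_add, LinearMap.add_apply, hx x, hx y, zero_add, add_zero] at e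
    have e2 : B (M y) (G x) = - B x (M (Gi y)) := by
      rw [alt_swap hA, h.adj]
      have hc' : Gi (M y) = M (Gi y) := by
        have := congrArg (fun f : Module.End F V => f y) (show Commute Gi M by
          show Commute Gi (N ^ 2)
          rw [hN]
          exact ((Commute.add_right (h.inv_mul.trans h.mul_inv.symm) (Commute.refl Gi)).sub_right
            (Algebra.commute_algebraMap_right c Gi)).pow_right 2).eq
        simpa using this
      rw [hc']
    rw [e2] at e
    rw [hsa2] at e
    rw [map_sub, sub_eq_zero]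
    linear_combination e
  have hMN : ∀ z, M (N z) = 0 := fun z => by
    have := LinearMap.congr_fun hN3 z
    rwa [pow_succ, Module.End.mul_apply] at this
  have hsq : ∀ z, G (G z) = c • G z + N (G z) - z := fun z => by
    rw [hN]
    simp only [LinearMap.sub_apply, LinearMap.add_apply, Module.algebraMap_end_apply,
      show Gi (G z) = z from LinearMap.congr_fun h.inv_mul z]
    abel
  have hM2 : ∀ y, M (G (G y)) = M y := fun y => by
    rw [hMi (G y), show Gi (G y) = y from LinearMap.congr_fun h.inv_mul y]
  have hcMG : ∀ y, c • M (G y) = (2 : F) • M y := fun y => by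
    have e := congrArg M (hsq y)
    simp only [map_sub, map_add, map_smul, hMN, add_zero, hM2] at e
    rw [two_smul]
    exact eq_add_of_sub_eq e.symm
  obtain ⟨x, hMx⟩ : ∃ y, M y ≠ 0 := by
    by_contra hall
    push Not at hall
    exact hN2 (LinearMap.ext hall)
  have hc0 : c ≠ 0 := fun e => by
    have := hcMG x
    rw [e, zero_smul] at this
    exact smul_ne_zero h2 hMx this.symm
  set ε := c / 2 with hεdef
  have hcε : c = 2 * ε := by rw [hεdef, mul_div_cancel₀ _ h2]
  have hMε : ∀ z, M (G z) = ε⁻¹ • M z := fun z => by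
    refine smul_right_injective V hc0 ?_
    show c • M (G z) = c • ε⁻¹ • M z
    rw [hcMG, smul_smul, hεdef, inv_div, mul_div_cancel₀ _ hc0]
  have hε : ε * ε = 1 := by
    have e := hM2 x
    rw [hMε, hMε, smul_smul] at e
    have h1 : ε⁻¹ * ε⁻¹ = 1 := smul_left_injective F hMx (e.trans (one_smul F _).symm)
    rw [← mul_inv, inv_eq_one] at h1
    exact h1
  have hε0 : ε ≠ 0 := fun e => by simp [e] at hε
  set n : Module.End F V := ε • G - 1 with hn
  have hn2 : n ^ 2 = N * G := LinearMap.ext fun z => by
    simp only [hn, pow_two, Module.End.mul_apply, LinearMap.sub_apply, LinearMap.smul_apply, Module.End.one_apply,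
      map_sub, map_smul, smul_sub, smul_smul, hε, one_smul, hsq, hcε]
    module
  have hn4 : ∀ z, (n ^ 4) z = M z := fun z => by
    rw [show 4 = 2 + 2 by rfl, pow_add, hn2, (show N * G * (N * G) = M * (G * G) by
      have e : Commute G N := by rw [hN]; exact h.commute.sub_right (Algebra.commute_algebraMap_right c G)
      show N * G * (N * G) = N ^ 2 * (G * G)
      rw [pow_two, mul_assoc, ← mul_assoc G, e.eq]; simp only [mul_assoc]), Module.End.mul_apply,
      Module.End.mul_apply, hM2]
  have hn5 : ∀ z, (n ^ 4) (n z) = 0 := fun z => by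
    rw [hn4, hn, LinearMap.sub_apply, LinearMap.smul_apply, Module.End.one_apply, map_sub, map_smul, hMε, smul_smul,
      mul_inv_cancel₀ hε0, one_smul, sub_self]
  obtain ⟨y, hxy⟩ : ∃ y, B (M x) y ≠ 0 := by
    by_contra hall
    push Not at hall
    exact hMx (hB.1 _ hall)
  let v : Fin 5 × Fin 2 → V := fun i => (n ^ (i.1 : ℕ)) (![x, y] i.2)
  have hv : LinearIndependent F v := by
    refine Fintype.linearIndependent_iff.2 fun a ha => ?_
    have hsum : a (0, 0) • (n ^ 0) x + a (0, 1) • (n ^ 0) y + (a (1, 0) • (n ^ 1) x + a (1, 1) • (n ^ 1) y) +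
        (a (2, 0) • (n ^ 2) x + a (2, 1) • (n ^ 2) y) + (a (3, 0) • (n ^ 3) x + a (3, 1) • (n ^ 3) y) +
        (a (4, 0) • (n ^ 4) x + a (4, 1) • (n ^ 4) y) = 0 := by
      rw [← ha]
      simp [v, Fintype.sum_prod_type, Fin.sum_univ_five, Fin.sum_univ_two]
    have hge : ∀ (j : ℕ) z, 5 ≤ j → (n ^ j) z = 0 := fun j z hj => by
      obtain ⟨i, rfl⟩ : ∃ i, j = 5 + i := ⟨j - 5, by omega⟩
      rw [pow_add, Module.End.mul_apply, show (5 : ℕ) = 4 + 1 by rfl, pow_succ, Module.End.mul_apply, hn5]
    have two : ∀ s t : F, s • (n ^ 4) x + t • (n ^ 4) y = 0 → s = 0 ∧ t = 0 := fun s t e => by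
      rw [hn4, hn4] at e
      have e1 := congrArg (fun w => B w y) e
      simp only [map_add, map_smul, LinearMap.add_apply, LinearMap.smul_apply, smul_eq_mul, map_zero,
        LinearMap.zero_apply, hsa2.apply_self hA h2 y, mul_zero, add_zero, mul_eq_zero] at e1
      have s0 := e1.resolve_right hxy
      rw [s0, zero_smul, zero_add] at e
      refine ⟨s0, (smul_eq_zero.1 e).resolve_right fun e2 => hxy ?_⟩
      rw [hsa2, e2, map_zero]
    have pw : ∀ (i j : ℕ) z, (n ^ i) ((n ^ j) z) = (n ^ (i + j)) z := fun i j z => by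
      rw [pow_add, Module.End.mul_apply]
    have f0 := congrArg (⇑(n ^ 4 : Module.End F V)) hsum
    simp only [map_add, map_smul, pw, map_zero, Nat.reduceAdd] at f0
    simp [hge] at f0
    obtain ⟨a00, a01⟩ := two _ _ f0
    rw [a00, a01, zero_smul, zero_smul, add_zero, zero_add] at hsum
    have f1 := congrArg (⇑(n ^ 3 : Module.End F V)) hsum
    simp only [map_add, map_smul, pw, map_zero, Nat.reduceAdd] at f1
    simp [hge] at f1
    obtain ⟨a10, a11⟩ := two _ _ f1
    rw [a10, a11, zero_smul, zero_smul, add_zero, zero_add] at hsum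
    have f2 := congrArg (⇑(n ^ 2 : Module.End F V)) hsum
    simp only [map_add, map_smul, pw, map_zero, Nat.reduceAdd] at f2
    simp [hge] at f2
    obtain ⟨a20, a21⟩ := two _ _ f2
    rw [a20, a21, zero_smul, zero_smul, add_zero, zero_add] at hsum
    have f3 := congrArg (⇑(n ^ 1 : Module.End F V)) hsum
    simp only [map_add, map_smul, pw, map_zero, Nat.reduceAdd] at f3
    simp [hge] at f3
    obtain ⟨a30, a31⟩ := two _ _ f3
    rw [a30, a31, zero_smul, zero_smul, add_zero, zero_add] at hsum
    obtain ⟨a40, a41⟩ := two _ _ hsum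
    rintro ⟨i, j⟩
    fin_cases i <;> fin_cases j <;> assumption
  have := hv.fintype_card_le_finrank
  rw [Fintype.card_prod, Fintype.card_fin, Fintype.card_fin, hV] at this
  omega

/-- Every isometry preserves a small non-degenerate subspace or normalises a cubic field structure. -/
theorem dec_or_semi (hA : B.IsAlt) (hB : B.Nondegenerate) (h3 : (3 : F) = 0) (hV : finrank F V = 6)
    (hφ : Irreducible φ) (hd : φ.natDegree = 3) (h : IsPair B G Gi) : Dec B G ∨ Semi B φ G := by
  classical
  have h2 := two_ne_zero_of h3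
  set T := G + Gi with hTdef
  have hT : SelfAdj B T := h.selfAdj_add
  haveI : Nontrivial V := Module.nontrivial_of_finrank_pos (R := F) (by omega)
  have hint : IsIntegral F T := IsIntegral.of_finite F T
  have hm := minpoly.monic hint
  obtain ⟨p, hp, hpi, hpd⟩ := Polynomial.exists_monic_irreducible_factor _ (minpoly.not_isUnit F T)
  obtain ⟨r, hr, hpr⟩ := (Polynomial.finiteMultiplicity_of_degree_pos_of_monic
    (degree_pos_of_irreducible hpi) hp hm.ne_zero).exists_eq_pow_mul_and_not_dvd
  set k := multiplicity p (minpoly F T)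
  have hk : k ≠ 0 := fun e => by
    rw [e, pow_zero, one_mul] at hr
    exact hpr (hr ▸ hpd)
  have hr0 : r ≠ 0 := fun e => hpr (e ▸ dvd_zero _)
  have hdeg : (minpoly F T).natDegree = k * p.natDegree + r.natDegree := by
    rw [hr, natDegree_mul (pow_ne_zero _ hpi.ne_zero) hr0, natDegree_pow]
  have small : ∀ s : F[X], s ≠ 0 → s.natDegree < (minpoly F T).natDegree → aeval T s ≠ 0 := fun s hs hlt he =>
    absurd (natDegree_le_of_dvd (minpoly.dvd F T he) hs) (by omega)
  by_cases hru : IsUnit r
  swap
  · have h1 : 0 < r.natDegree := by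
      by_contra h0
      exact hru (isUnit_iff_degree_eq_zero.2 ((degree_eq_iff_natDegree_eq (n := 0) hr0).2 (by omega)))
    have h2' : 0 < k * p.natDegree := Nat.mul_pos (Nat.pos_of_ne_zero hk) hpi.natDegree_pos
    refine Or.inl (dec_of_coprime hA hB hV h hT h.commute ((hpi.coprime_iff_not_dvd.2 hpr).pow_left (m := k))
      (by rw [← hr, minpoly.aeval]) (small _ (pow_ne_zero _ hpi.ne_zero) (by rw [natDegree_pow]; omega))
      (small r hr0 (by omega)))
  have hr1 : r.natDegree = 0 := natDegree_eq_zero_of_isUnit hru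
  have hpk : aeval T (p ^ k) = 0 := by
    have e := minpoly.aeval F T
    rw [hr, map_mul] at e
    exact (hru.map (aeval T)).mul_left_eq_zero.1 e
  have hpk' : aeval T (p ^ (k - 1)) ≠ 0 := small _ (pow_ne_zero _ hpi.ne_zero) (by
    rw [natDegree_pow, hdeg, hr1, add_zero]
    exact Nat.mul_lt_mul_of_pos_right (by omega) hpi.natDegree_pos)
  have hb := degree_bound hA hB h2 hV hT hpi hpk hpk'
  rw [natDegree_pow] at hb
  by_cases h1 : p.natDegree = 1
  · obtain ⟨c, rfl⟩ : ∃ c, p = X - C c := ⟨-p.coeff 0, by
      rw [map_neg, sub_neg_eq_add]; exact hp.eq_X_add_C h1⟩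
    set N := G + Gi - algebraMap F _ c with hN
    have hpow : ∀ j, aeval T ((X - C c) ^ j) = N ^ j := fun j => by
      rw [map_pow, map_sub, aeval_X, aeval_C]
    rw [hpow] at hpk hpk'
    rw [h1, mul_one] at hb
    interval_cases k
    · exact absurd rfl hk
    · refine Or.inl (dec_of_scalar hA hB h2 hV h (c := c) (fun z => ?_) fun z => ?_)
      · have e := LinearMap.congr_fun hpk (G z)
        simp only [pow_one, hN, LinearMap.sub_apply, LinearMap.add_apply, Module.algebraMap_end_apply,
          show Gi (G z) = z from LinearMap.congr_fun h.inv_mul z, LinearMap.zero_apply] at e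
        rw [← sub_eq_zero, ← e]
        abel
      · have e := LinearMap.congr_fun hpk z
        simp only [pow_one, hN, LinearMap.sub_apply, LinearMap.add_apply, Module.algebraMap_end_apply,
          LinearMap.zero_apply, sub_eq_zero] at e
        exact e
    · exact dec_or_semi_of_square hA hB h3 hV h hφ hd hN hpk (by simpa using hpk')
    · exact Or.inr (semi_of_cube hA hB h3 hV h hφ hd hN hpk hpk')
  have hk1 : k = 1 := by
    have : 2 ≤ p.natDegree := by have := hpi.natDegree_pos; omega
    by_contra hne
    have : 2 * 2 ≤ k * p.natDegree := Nat.mul_le_mul (by omega) this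
    omega
  rw [hk1, pow_one] at hpk
  rw [hk1, one_mul] at hb
  have hd3 : p.natDegree = 3 := by
    have := hpi.natDegree_pos
    have h2'' : p.natDegree ≠ 2 := fun e => no_quadratic_root hA hB h2 hV hT hpi e hpk
    omega
  obtain ⟨hh, hdiv⟩ := FieldStr.exists_root_mod hφ hpi (by rw [hd, hd3])
  refine Or.inr ⟨aeval T hh, ?_, hT.aeval _, X, ?_⟩
  · obtain ⟨s, hs⟩ := hdiv
    rw [← aeval_comp, hs, map_mul, hpk, zero_mul]
  · rw [aeval_X]
    exact Algebra.commute_of_mem_adjoin_singleton_of_commute (aeval_mem_adjoin_singleton F T) h.commute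

end CfsgLib.KnownA.NormalCover.Sp6
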