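import Cfsg.Agent.Lib.Classical.SympMatrix
import Cfsg.Agent.Lib.Classical.SympWitt
import Cfsg.Agent.Lib.KnownA.NormalCover.FieldStr

/-!
# Isometries of symplectic spaces and self-adjoint field structures
-/

set_option autoImplicit false
set_option linter.unusedSectionVars false

open Module Polynomial

namespace CfsgLib.KnownA.NormalCover.Sp6

open CfsgLib.Classical

variable {F : Type*} [Field F] {V : Type*} [AddCommGroup V] [Module F V] (B : V →ₗ[F] V →ₗ[F] F)

/-- A self-adjoint endomorphism. -/
def SelfAdj (T : Module.End F V) : Prop := ∀ x y, B (T x) y = B x (T y)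

/-- An invariant non-degenerate subspace of dimension two or four. -/
def Dec (g : Module.End F V) : Prop :=
  ∃ W : Submodule F V, (finrank F W = 2 ∨ finrank F W = 4) ∧ NondegOn B W ∧ ∀ x ∈ W, g x ∈ W

/-- A self-adjoint root of `φ` whose algebra is normalised by `g`. -/
def Semi (φ : F[X]) (g : Module.End F V) : Prop :=
  ∃ J : Module.End F V, aeval J φ = 0 ∧ SelfAdj B J ∧ ∃ r : F[X], g * J = aeval J r * g

/-- An isometry with its inverse. -/
structure IsPair (G Gi : Module.End F V) : Prop where
  mul_inv : G * Gi = 1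
  inv_mul : Gi * G = 1
  adj : ∀ x y, B (G x) y = B x (Gi y)

variable {B}

theorem isPair_of_mem (g : isomGroup B) : IsPair B (g.1 : V →ₗ[F] V) (g.1.symm : V →ₗ[F] V) where
  mul_inv := LinearMap.ext fun x => g.1.apply_symm_apply x
  inv_mul := LinearMap.ext fun x => g.1.symm_apply_apply x
  adj x y := by
    conv_lhs => rw [← g.1.apply_symm_apply y]
    exact g.2 x _

namespace IsPair

variable {G Gi : Module.End F V} (h : IsPair B G Gi)
include h

theorem adj' (x y : V) : B (Gi x) y = B x (G y) := by
  have e : ∀ z, G (Gi z) = z := fun z => LinearMap.congr_fun h.mul_inv z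
  have e' : ∀ z, Gi (G z) = z := fun z => LinearMap.congr_fun h.inv_mul z
  have := h.adj (Gi x) (G y)
  rwa [e, e', eq_comm] at this

theorem isometry (x y : V) : B (G x) (G y) = B x y := by
  rw [h.adj, show Gi (G y) = y from LinearMap.congr_fun h.inv_mul y]

theorem commute : Commute G (G + Gi) := by
  show G * (G + Gi) = (G + Gi) * G
  rw [mul_add, add_mul, h.mul_inv, h.inv_mul]

theorem selfAdj_add : SelfAdj B (G + Gi) := fun x y => by
  simp only [LinearMap.add_apply, map_add, h.adj, h.adj', add_comm]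

end IsPair

theorem SelfAdj.aeval {T : Module.End F V} (hT : SelfAdj B T) (p : F[X]) : SelfAdj B (aeval T p) := by
  induction p using Polynomial.induction_on with
  | C a => intro x y; simp
  | add a b ha hb => intro x y; simp [ha x y, hb x y]
  | monomial k a ih =>
    intro x y
    rw [pow_succ, ← mul_assoc, map_mul, aeval_X, Module.End.mul_apply, Module.End.mul_apply, ih, hT,
      ← Module.End.mul_apply, ← Module.End.mul_apply]
    refine congrArg (fun f : Module.End F V => B x (f y)) ?_
    simpa only [aeval_X] using ((Commute.all (X : F[X]) (C a * X ^ k)).map (Polynomial.aeval T)).eq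

theorem SelfAdj.apply_self (hA : B.IsAlt) (h2 : (2 : F) ≠ 0) {T : Module.End F V} (hT : SelfAdj B T) (x : V) :
    B (T x) x = 0 := by
  have h := hT x x
  rw [alt_swap hA x (T x)] at h
  exact (mul_eq_zero.1 (show (2 : F) * B (T x) x = 0 by linear_combination h)).resolve_left h2

variable {V' : Type*} [AddCommGroup V'] [Module F V'] {B' : V' →ₗ[F] V' →ₗ[F] F}

theorem semi_transport {φ : F[X]} {g : Module.End F V} {g' : Module.End F V'} (e : V ≃ₗ[F] V')
    (he : ∀ x y, B' (e x) (e y) = B x y) (hg : ∀ x, e (g x) = g' (e x)) (h : Semi B' φ g') : Semi B φ g := by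
  obtain ⟨J, hJ, hsa, r, hr⟩ := h
  let Φ : Module.End F V' ≃ₐ[F] Module.End F V := e.symm.conjAlgEquiv F
  have hΦ : ∀ (f : Module.End F V') (x : V), Φ f x = e.symm (f (e x)) := fun f x => by
    simp [Φ, LinearEquiv.conjAlgEquiv_apply]
  have hgg : Φ g' = g := LinearMap.ext fun x => by rw [hΦ, ← hg, e.symm_apply_apply]
  refine ⟨Φ J, ?_, fun x y => ?_, r, ?_⟩
  · show aeval (Φ.toAlgHom J) φ = 0
    rw [aeval_algHom_apply, hJ, map_zero]
  · rw [hΦ, hΦ, ← he, ← he x, e.apply_symm_apply, e.apply_symm_apply]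
    exact hsa _ _
  · rw [← hgg, ← map_mul, hr, map_mul]
    show _ = aeval (Φ.toAlgHom J) r * _
    rw [aeval_algHom_apply]
    rfl

/-- Two spaces with frames of the same Gram matrix and the same action are isometric equivariantly. -/
theorem exists_isometry_of_frame [FiniteDimensional F V] [FiniteDimensional F V'] {ι : Type*} [Fintype ι]
    [Nonempty ι] (v : ι → V) (v' : ι → V') (hV : Fintype.card ι = finrank F V)
    (hV' : Fintype.card ι = finrank F V')
    (hG : ∀ i j, B (v i) (v j) = B' (v' i) (v' j))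
    (hdet : ∀ a : ι → F, (∀ j, ∑ i, a i * B (v i) (v j) = 0) → a = 0)
    {g : Module.End F V} {g' : Module.End F V'}
    (hact : ∀ i, ∃ a : ι → F, g (v i) = ∑ j, a j • v j ∧ g' (v' i) = ∑ j, a j • v' j) :
    ∃ e : V ≃ₗ[F] V', (∀ x y, B' (e x) (e y) = B x y) ∧ ∀ x, e (g x) = g' (e x) := by
  classical
  have hli : LinearIndependent F v := Fintype.linearIndependent_iff.2 fun a ha => congrFun (hdet a fun j => by
    have := congrArg (fun z => B z (v j)) ha
    simpa [LinearMap.sum_apply] using this)
  have hli' : LinearIndependent F v' := Fintype.linearIndependent_iff.2 fun a ha => congrFun (hdet a fun j => by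
    have := congrArg (fun z => B' z (v' j)) ha
    simpa [LinearMap.sum_apply, hG] using this)
  let b := basisOfLinearIndependentOfCardEqFinrank hli hV
  let b' := basisOfLinearIndependentOfCardEqFinrank hli' hV'
  let e := b.equiv b' (Equiv.refl ι)
  have hev : ∀ i, e (v i) = v' i := fun i => by
    have h : e (b i) = b' i := by simp [e]
    simpa [b, b'] using h
  refine ⟨e, ?_, ?_⟩
  · have h : B'.compl₁₂ (e : V →ₗ[F] V') (e : V →ₗ[F] V') = B := LinearMap.ext_basis b b fun i j => by
      simp [b, hev, hG]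
    exact fun x y => LinearMap.congr_fun₂ h x y
  · have h : (e : V →ₗ[F] V').comp g = g'.comp (e : V →ₗ[F] V') := b.ext fun i => by
      obtain ⟨a, ha, ha'⟩ := hact i
      simp [b, hev, ha, ha']
    exact fun x => LinearMap.congr_fun h x

/-- The form `ℓ(z₀w₁ - z₁w₀)` on pairs. -/
noncomputable def detForm {K : Type*} [Field K] [Algebra F K] (ℓ : K →ₗ[F] F) :
    (Fin 2 → K) →ₗ[F] (Fin 2 → K) →ₗ[F] F :=
  LinearMap.mk₂ F (fun z w => ℓ (z 0 * w 1 - z 1 * w 0))
    (fun a b c => by rw [← map_add]; congr 1; simp only [Pi.add_apply]; ring)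
    (fun s a c => by rw [← map_smul]; congr 1; simp [Algebra.smul_def]; ring)
    (fun a b c => by rw [← map_add]; congr 1; simp only [Pi.add_apply]; ring)
    (fun s a c => by rw [← map_smul]; congr 1; simp [Algebra.smul_def]; ring)

theorem detForm_apply {K : Type*} [Field K] [Algebra F K] (ℓ : K →ₗ[F] F) (z w : Fin 2 → K) :
    detForm ℓ z w = ℓ (z 0 * w 1 - z 1 * w 0) := rfl

variable [Finite F] [FiniteDimensional F V]

/-- Normal form of a self-adjoint root of an irreducible cubic. -/
theorem exists_normalForm (hA : B.IsAlt) (hN : B.Nondegenerate) (h2 : (2 : F) ≠ 0) (hV : finrank F V = 6)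
    {φ : F[X]} (hφ : Irreducible φ) (hd : φ.natDegree = 3) {J : Module.End F V} (hJ : Polynomial.aeval J φ = 0)
    (hsa : SelfAdj B J) {ℓ : AdjoinRoot φ →ₗ[F] F} (hℓ : ℓ ≠ 0) :
    ∃ e : (Fin 2 → AdjoinRoot φ) ≃ₗ[F] V, (∀ z, e (fun i => AdjoinRoot.root φ * z i) = J (e z)) ∧
      ∀ z w, haveI := Fact.mk hφ; B (e z) (e w) = detForm ℓ z w := by
  classical
  haveI := Fact.mk hφ
  set K := AdjoinRoot φ
  haveI : FiniteDimensional F K := (AdjoinRoot.powerBasis hφ.ne_zero).finite
  obtain ⟨s, ψ, hs, hψ⟩ := FieldStr.exists_coord hφ hJ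
  obtain rfl : s = 2 := by rw [hd, hV] at hs; omega
  have hmul : ∀ (p : F[X]) (z : Fin 2 → K), ψ (fun i => AdjoinRoot.mk φ p * z i) = Polynomial.aeval J p (ψ z) := by
    intro p
    induction p using Polynomial.induction_on with
    | C a =>
      intro z
      rw [aeval_C, Module.algebraMap_end_apply, ← map_smul]
      congr 1
      funext i
      simp [Algebra.smul_def]
      exact Or.inl rfl
    | add a b ha hb =>
      intro z
      rw [map_add (Polynomial.aeval J), LinearMap.add_apply, ← ha, ← hb, ← map_add ψ]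
      congr 1
      funext i
      simp [add_mul]
    | monomial k a ih =>
      intro z
      have e : Polynomial.aeval J (C a * X ^ (k + 1)) = Polynomial.aeval J (C a * X ^ k) * J := by
        rw [pow_succ, ← mul_assoc, map_mul, aeval_X]
      rw [e, Module.End.mul_apply, ← hψ, ← ih]
      congr 1
      funext i
      rw [pow_succ, ← mul_assoc (C a), map_mul, AdjoinRoot.mk_X, mul_assoc]
  have hmove : ∀ (k : K) (z w : Fin 2 → K), B (ψ fun i => k * z i) (ψ w) = B (ψ z) (ψ fun i => k * w i) := by
    intro k z w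
    obtain ⟨p, rfl⟩ := AdjoinRoot.mk_surjective k
    rw [hmul, hmul]
    exact hsa.aeval p _ _
  have hself : ∀ (k : K) (z : Fin 2 → K), B (ψ fun i => k * z i) (ψ z) = 0 := by
    intro k z
    obtain ⟨p, rfl⟩ := AdjoinRoot.mk_surjective k
    rw [hmul]
    exact (hsa.aeval p).apply_self hA h2 _
  let l : K →ₗ[F] F :=
    { toFun := fun r => B (ψ ![r, 0]) (ψ ![0, 1])
      map_add' := fun a b => by
        rw [show (![a + b, 0] : Fin 2 → K) = ![a, 0] + ![b, 0] by funext i; fin_cases i <;> simp, map_add, map_add,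
          LinearMap.add_apply]
      map_smul' := fun c a => by
        rw [show (![c • a, 0] : Fin 2 → K) = c • ![a, 0] by funext i; fin_cases i <;> simp, map_smul, map_smul,
          LinearMap.smul_apply]
        rfl }
  have hform : ∀ z w, B (ψ z) (ψ w) = l (z 0 * w 1 - z 1 * w 0) := by
    intro z w
    have e : ∀ u : Fin 2 → K, u = (fun i => u 0 * (![1, 0] : Fin 2 → K) i) + fun i => u 1 * (![0, 1] : Fin 2 → K) i :=
      fun u => by funext i; fin_cases i <;> simp
    have e2 : ∀ a : K, (fun i => a * (![1, 0] : Fin 2 → K) i) = ![a, 0] := fun a => by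
      funext i; fin_cases i <;> simp
    conv_lhs => rw [e z, e w]
    simp only [map_add, LinearMap.add_apply]
    rw [hmove (z 0) ![1, 0], hmove (z 0) ![1, 0], hmove (z 1) ![0, 1], hmove (z 1) ![0, 1]]
    simp only [← mul_assoc]
    rw [alt_swap hA (ψ ![1, 0]) (ψ fun i => z 0 * w 0 * _), hself,
      alt_swap hA (ψ ![0, 1]) (ψ fun i => z 1 * w 1 * _), hself,
      alt_swap hA (ψ ![0, 1]) (ψ fun i => z 1 * w 0 * _), ← hmove (z 0 * w 1) ![1, 0] ![0, 1], e2, e2]
    rw [map_sub]
    simp [l]
    ring
  have hl : l ≠ 0 := by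
    intro h
    obtain ⟨x, hx⟩ : ∃ x : V, x ≠ 0 := by
      haveI : Nontrivial V := Module.nontrivial_of_finrank_pos (R := F) (by omega)
      exact exists_ne 0
    refine hx (hN.1 x fun y => ?_)
    rw [← ψ.apply_symm_apply x, ← ψ.apply_symm_apply y, hform, h, LinearMap.zero_apply]
  let T : K →ₗ[F] Module.Dual F K :=
    LinearMap.mk₂ F (fun k r => l (k * r)) (fun a b c => by rw [add_mul, map_add])
      (fun s a c => by rw [smul_mul_assoc, map_smul]) (fun a b c => by rw [mul_add, map_add])
      (fun s a c => by rw [mul_smul_comm, map_smul])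
  have hTi : Function.Injective T := by
    refine (injective_iff_map_eq_zero T).2 fun k hk => ?_
    by_contra hk0
    refine hl (LinearMap.ext fun r => ?_)
    have := LinearMap.congr_fun hk (k⁻¹ * r)
    rwa [show T k (k⁻¹ * r) = l (k * (k⁻¹ * r)) from rfl, ← mul_assoc, mul_inv_cancel₀ hk0, one_mul] at this
  obtain ⟨κ, hκ⟩ := (LinearMap.injective_iff_surjective_of_finrank_eq_finrank
    (Subspace.dual_finrank_eq (K := F) (V := K)).symm).1 hTi ℓ
  have hκ0 : κ ≠ 0 := fun h => hℓ (by rw [← hκ, h, map_zero])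
  let M : (Fin 2 → K) ≃ₗ[F] (Fin 2 → K) :=
    { toFun := fun z => ![κ * z 0, z 1]
      invFun := fun z => ![κ⁻¹ * z 0, z 1]
      map_add' := fun a b => by funext i; fin_cases i <;> simp [mul_add]
      map_smul' := fun c a => by funext i; fin_cases i <;> simp
      left_inv := fun z => by funext i; fin_cases i <;> simp [hκ0]
      right_inv := fun z => by funext i; fin_cases i <;> simp [hκ0] }
  refine ⟨M.trans ψ, fun z => ?_, fun z w => ?_⟩
  · show ψ (M _) = J (ψ (M z))
    rw [← hψ]
    congr 1
    funext i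
    fin_cases i <;> simp [M]
    ring
  · show B (ψ (M z)) (ψ (M w)) = _
    rw [hform, detForm_apply, ← hκ]
    show l _ = l (κ * _)
    congr 1
    simp [M]
    ring

end CfsgLib.KnownA.NormalCover.Sp6
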