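import Cfsg.Agent.Lib.KnownA.NormalCover.Sp6.Basic

/-!
# Normal forms of isometries of six dimensional symplectic spaces with a single quadratic factor
-/

set_option autoImplicit false
set_option linter.unusedSectionVars false

open Module Polynomial

namespace CfsgLib.KnownA.NormalCover.Sp6

open CfsgLib.Classical

variable {F : Type*} [Field F] {V : Type*} [AddCommGroup V] [Module F V] {B : V →ₗ[F] V →ₗ[F] F}
  {G Gi : Module.End F V}

/-- Gram matrix of a cyclic frame. -/
def gramCyc (ν : F) : Fin 6 → Fin 6 → F :=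
  ![![0, 0, 0, 0, 0, ν], ![0, 0, 0, 0, -ν, 0], ![0, 0, 0, ν, 0, 0], ![0, 0, -ν, 0, 0, 0], ![0, ν, 0, 0, 0, 0],
    ![-ν, 0, 0, 0, 0, 0]]

/-- Action on a cyclic frame. -/
def actCyc (c : F) : Fin 6 → Fin 6 → F :=
  ![![0, 1, 0, 0, 0, 0], ![-1, c, 0, 1, 0, 0], ![0, 0, 0, 1, 0, 0], ![0, 0, -1, c, 0, 1], ![0, 0, 0, 0, 0, 1],
    ![0, 0, 0, 0, -1, c]]

theorem gramCyc_det {ν : F} (hν : ν ≠ 0) (a : Fin 6 → F) (h : ∀ j, ∑ i, a i * gramCyc ν i j = 0) : a = 0 := by
  have h0 := h 0
  have h1 := h 1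
  have h2 := h 2
  have h3 := h 3
  have h4 := h 4
  have h5 := h 5
  simp [Fin.sum_univ_six, gramCyc, hν] at h0 h1 h2 h3 h4 h5
  funext i
  fin_cases i <;> simp [h0, h1, h2, h3, h4, h5]

theorem exists_cyclic_frame (hA : B.IsAlt) (h2 : (2 : F) ≠ 0) (h : IsPair B G Gi) {c : F} {N : Module.End F V}
    (hN : N = G + Gi - algebraMap F _ c) (hN3 : N ^ 3 = 0) {x : V} {ν : F} (hν : B ((N ^ 2) x) (G x) = ν)
    (hν0 : ν ≠ 0) :
    ∃ v : Fin 6 → V, (∀ i j, B (v i) (v j) = gramCyc ν i j) ∧ ∀ i, G (v i) = ∑ j, actCyc c i j • v j := by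
  subst hν
  set ν := B ((N ^ 2) x) (G x)
  have hsa : SelfAdj B N := by
    intro a b
    rw [hN]
    have e := h.selfAdj_add a b
    simp only [LinearMap.add_apply, map_add] at e
    simp [e]
  have hNG : ∀ z, N (G z) = G (N z) := fun z => by
    have e : Commute N G := by
      rw [hN]
      exact ((h.commute.symm).sub_left (Algebra.commute_algebraMap_left c G))
    exact LinearMap.congr_fun e.eq z
  have hN3' : ∀ z, N (N (N z)) = 0 := fun z => by
    have := LinearMap.congr_fun hN3 z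
    simpa [pow_succ] using this
  have hsq : ∀ z, G (G z) = c • G z + N (G z) - z := fun z => by
    rw [hN]
    simp only [LinearMap.sub_apply, LinearMap.add_apply, Module.algebraMap_end_apply,
      show Gi (G z) = z from LinearMap.congr_fun h.inv_mul z]
    abel
  have hzz : ∀ z, B (N z) z = 0 := fun z => hsa.apply_self hA h2 z
  have hzz2 : ∀ z, B (N (N z)) z = 0 := fun z => by rw [hsa]; exact hA _
  have hν' : B (N (N x)) (G x) = ν := by rw [← Module.End.mul_apply, ← pow_two]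
  set b1 := B (N x) (G x)
  set b0 := B x (G x)
  set p1 := -b1 / (2 * ν) with hp1
  set p2 := -(b0 + 2 * p1 * b1 + p1 ^ 2 * ν) / (2 * ν) with hp2
  set y := x + p1 • N x + p2 • N (N x) with hy
  have hGy : G y = G x + p1 • N (G x) + p2 • N (N (G x)) := by
    simp [hy, hNG, map_add, map_smul]
  have n1 : B x (N (G x)) = b1 := (hsa x _).symm
  have n2 : B x (N (N (G x))) = ν := by rw [← hsa, ← hsa, hν']
  have n11 : B (N x) (N (G x)) = ν := by rw [← hsa, hν']
  have n12 : B (N x) (N (N (G x))) = 0 := by rw [← hsa, ← hsa, hN3']; simp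
  have n21 : B (N (N x)) (N (G x)) = 0 := by rw [← hsa, hN3']; simp
  have n22 : B (N (N x)) (N (N (G x))) = 0 := by rw [← hsa, hN3']; simp
  have hy2 : B (N (N y)) (G y) = ν := by
    rw [hGy]
    simp [hy, map_add, map_smul, hN3', hν', n21, n22]
  have hy1 : B (N y) (G y) = 0 := by
    rw [hGy]
    simp [hy, map_add, map_smul, hN3', hν', n21, n22, n11, n12, show B (N x) (G x) = b1 from rfl]
    rw [hp1]
    field_simp
    ring
  have hy0 : B y (G y) = 0 := by
    rw [hGy]
    simp [hy, map_add, map_smul, hν', n21, n22, n11, n12, n1, n2, show B (N x) (G x) = b1 from rfl,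
      show B x (G x) = b0 from rfl]
    rw [hp2]
    field_simp
    ring
  have hy3 : B y (N (G y)) = 0 := by rw [← hsa, hy1]
  have hy4 : B y (N (N (G y))) = ν := by rw [← hsa, ← hsa, hy2]
  have hy5 : B (N y) (N (G y)) = ν := by rw [← hsa, hy2]
  have hy6 : B (N y) (N (N (G y))) = 0 := by rw [← hsa, ← hsa, hN3']; simp
  have hy7 : B (N (N y)) (N (G y)) = 0 := by rw [← hsa, hN3']; simp
  have hy8 : B (N (N y)) (N (N (G y))) = 0 := by rw [← hsa, hN3']; simp
  have sym : ∀ a b : V, ∀ t, B a b = t → B b a = -t := fun a b t e => by rw [alt_swap hA, e]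
  have d : ∀ z : V, B z (N z) = 0 ∧ B z (N (N z)) = 0 ∧ B (N z) (N (N z)) = 0 ∧ B (N (N z)) (N z) = 0 := fun z =>
    ⟨by rw [← hsa, hzz], by rw [← hsa, ← hsa, hzz2], by rw [← hsa, hzz], hzz _⟩
  refine ⟨![y, G y, N y, N (G y), N (N y), N (N (G y))], fun i j => ?_, fun i => ?_⟩
  · fin_cases i <;> fin_cases j <;>
      simp [gramCyc, (show ∀ w, B w w = 0 from hA), hzz, hzz2, (d y).1, (d y).2.1, (d y).2.2.1, (d y).2.2.2, (d (G y)).1, (d (G y)).2.1,
        (d (G y)).2.2.1, (d (G y)).2.2.2, hy0, hy1, hy2, hy3, hy4, hy5, hy6, hy7, hy8, sym _ _ _ hy0, sym _ _ _ hy1,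
        sym _ _ _ hy2, sym _ _ _ hy3, sym _ _ _ hy4, sym _ _ _ hy5, sym _ _ _ hy6, sym _ _ _ hy7, sym _ _ _ hy8]
  · fin_cases i <;> simp [Fin.sum_univ_six, actCyc, hNG, hsq, map_add, map_sub, map_smul, hN3', ← sub_eq_add_neg] <;>
      simp [← hNG, hsq, map_add, map_sub, map_smul, hN3'] <;> abel

/-- Gram matrix of a pair of Lagrangian cycles. -/
def gramPair : Fin 6 → Fin 6 → F :=
  ![![0, 0, 0, 1, 0, 0], ![0, 0, 0, 0, 1, 0], ![0, 0, 0, 0, 0, 1], ![-1, 0, 0, 0, 0, 0], ![0, -1, 0, 0, 0, 0],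
    ![0, 0, -1, 0, 0, 0]]

/-- Action on a pair of Lagrangian cycles. -/
def actPair (ε : F) : Fin 6 → Fin 6 → F :=
  ![![0, ε, 0, 0, 0, 0], ![0, 0, ε, 0, 0, 0], ![ε, 0, 0, 0, 0, 0], ![0, 0, 0, 0, ε, 0], ![0, 0, 0, 0, 0, ε],
    ![0, 0, 0, ε, 0, 0]]

theorem gramPair_det (a : Fin 6 → F) (h : ∀ j, ∑ i, a i * gramPair i j = 0) : a = 0 := by
  have h0 := h 0
  have h1 := h 1
  have h2 := h 2
  have h3 := h 3
  have h4 := h 4
  have h5 := h 5
  simp [Fin.sum_univ_six, gramPair] at h0 h1 h2 h3 h4 h5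
  funext i
  fin_cases i <;> simp [h0, h1, h2, h3, h4, h5]

variable [FiniteDimensional F V]

theorem exists_pair_frame (hA : B.IsAlt) (hN : B.Nondegenerate) (h3 : (3 : F) = 0) (hV : finrank F V = 6)
    (h : IsPair B G Gi) {ε : F} (hε : ε * ε = 1) {n : Module.End F V} (hn : n = ε • G - 1) (hn3 : n ^ 3 = 0)
    (hn2 : n ^ 2 ≠ 0) :
    ∃ v : Fin 6 → V, (∀ i j, B (v i) (v j) = gramPair i j) ∧ ∀ i, G (v i) = ∑ j, actPair ε i j • v j := by
  have h2 : (2 : F) ≠ 0 := fun e => one_ne_zero (α := F) (by linear_combination h3 - e)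
  set u : Module.End F V := ε • G with hu
  set ui : Module.End F V := ε • Gi with hui
  have hpu : IsPair B u ui :=
    { mul_inv := by rw [hu, hui, smul_mul_smul_comm, hε, h.mul_inv, one_smul]
      inv_mul := by rw [hu, hui, smul_mul_smul_comm, hε, h.inv_mul, one_smul]
      adj := fun a b => by simp [hu, hui, h.adj] }
  have hn' : ∀ z, n z = u z - z := fun z => by rw [hn]; rfl
  have hu3 : ∀ z, u (u (u z)) = z := fun z => by
    have e := LinearMap.congr_fun hn3 z
    simp only [pow_succ, pow_zero, one_mul, Module.End.mul_apply, hn', map_sub, LinearMap.zero_apply] at e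
    have t : (3 : F) • u z = 0 ∧ (3 : F) • u (u z) = 0 := by rw [h3]; simp
    linear_combination (norm := module) e + t.2 - t.1
  have hiso : ∀ a b, B (u a) (u b) = B a b := hpu.isometry
  have huu : ∀ z, ui z = u (u z) := fun z => by
    conv_lhs => rw [← hu3 z]
    exact LinearMap.congr_fun hpu.inv_mul _
  -- the square is self-adjoint
  have hn2' : ∀ z, n (n z) = u (u z) + u z + z := fun z => by
    simp only [hn', map_sub]
    have t : (3 : F) • u z = 0 := by rw [h3]; simp
    linear_combination (norm := module) -t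
  have hsa : SelfAdj B (n ^ 2) := fun a b => by
    simp only [pow_two, Module.End.mul_apply, hn2', map_add, LinearMap.add_apply]
    rw [← huu, ← huu, hpu.adj' a b, hpu.adj a b]
    abel
  have hzz : ∀ z, B z (n (n z)) = 0 := fun z => by
    have := hsa.apply_self hA h2 z
    rw [alt_swap hA, ← Module.End.mul_apply, ← pow_two, this, neg_zero]
  obtain ⟨x₀, hx₀⟩ : ∃ x₀, n (n x₀) ≠ 0 := by
    by_contra hall
    push Not at hall
    exact hn2 (LinearMap.ext fun z => by rw [pow_two, Module.End.mul_apply]; exact hall z)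
  obtain ⟨y₀, hy₀⟩ : ∃ y, B (n (n x₀)) y ≠ 0 := by
    by_contra hall
    push Not at hall
    exact hx₀ (hN.1 _ hall)
  have key : ∀ a b : V, B (n (n a)) b ≠ 0 → ∃ a', n (n a') = n (n a) ∧ B a' (u a') = 0 := by
    intro a b hab
    set v := n b with hv
    have h1 : B a (u v) + B v (u a) = 2 * B a (n (n b)) := by
      rw [alt_swap hA v (u a), hpu.adj a v, huu, hv, hn2']
      simp only [hn', map_sub, map_add, hu3]
      linear_combination (-(B a (u b)) - B a b) * h3
    have h4 : B v (u v) = 0 := by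
      rw [hv, hn', map_sub, map_sub, map_sub, LinearMap.sub_apply, LinearMap.sub_apply, hiso, hiso, (show ∀ w, B w w = 0 from hA)]
      have e := hzz b
      rw [hn2', map_add, map_add, (show ∀ w, B w w = 0 from hA)] at e
      linear_combination -e + (B b (u b)) * h3
    have hne : (2 : F) * B a (n (n b)) ≠ 0 := by
      refine mul_ne_zero h2 ?_
      rwa [← Module.End.mul_apply, ← pow_two, ← hsa, pow_two, Module.End.mul_apply]
    refine ⟨a + (-B a (u a) / (2 * B a (n (n b)))) • v, ?_, ?_⟩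
    · rw [map_add, map_smul, map_add, map_smul, hv,
        show n (n (n b)) = 0 by simpa [pow_succ] using LinearMap.congr_fun hn3 b, smul_zero, add_zero]
    · simp only [map_add, map_smul, LinearMap.add_apply, LinearMap.smul_apply, smul_eq_mul, h4, mul_zero, add_zero]
      set s := -B a (u a) / (2 * B a (n (n b)))
      have hs : s * (2 * B a (n (n b))) = -B a (u a) := div_mul_cancel₀ _ hne
      linear_combination s * h1 + hs
  obtain ⟨x, hx, hxu⟩ := key x₀ y₀ hy₀
  have hy₀' : B (n (n y₀)) x ≠ 0 := by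
    rw [← Module.End.mul_apply, ← pow_two, hsa, pow_two, Module.End.mul_apply, hx, alt_swap hA]
    exact neg_ne_zero.2 hy₀
  obtain ⟨y, hy, hyu⟩ := key y₀ x hy₀'
  have hpair : B x (n (n y)) ≠ 0 := by
    rwa [hy, alt_swap hA, neg_ne_zero]
  have orb : ∀ z, B z (u z) = 0 → B z (u (u z)) = 0 ∧ B (u z) (u (u z)) = 0 := fun z hz => by
    refine ⟨?_, by rw [hiso, hz]⟩
    rw [← hiso, hu3, alt_swap hA, hz, neg_zero]
  let P : (Fin 3 → F) →ₗ[F] V :=
    { toFun := fun a => a 0 • y + a 1 • u y + a 2 • u (u y)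
      map_add' := fun a b => by simp [add_smul]; abel
      map_smul' := fun c a => by simp [smul_smul] }
  let f : (Fin 3 → F) →ₗ[F] (Fin 3 → F) :=
    LinearMap.pi ![(B x).comp P, (B (u x)).comp P, (B (u (u x))).comp P]
  obtain ⟨hy1, hy2⟩ := orb y hyu
  obtain ⟨hx1, hx2⟩ := orb x hxu
  have hfi : Function.Injective f := by
    refine (injective_iff_map_eq_zero f).2 fun a ha => ?_
    set e0 := B x y
    set e1 := B x (u y)
    set e2 := B x (u (u y))
    have r1 : B (u x) y = e2 := by show _ = B x (u (u y)); rw [← hiso x, hu3]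
    have r2 : B (u x) (u y) = e0 := hiso _ _
    have r3 : B (u x) (u (u y)) = e1 := hiso _ _
    have r4 : B (u (u x)) y = e1 := by show _ = B x (u y); rw [← hiso x, ← hiso (u x), hu3]
    have r5 : B (u (u x)) (u y) = e2 := by rw [hiso, r1]
    have r6 : B (u (u x)) (u (u y)) = e0 := by rw [hiso, hiso]
    have q0 : a 0 * e0 + a 1 * e1 + a 2 * e2 = 0 := by
      have := congrFun ha 0
      simpa [f, P] using this
    have q1 : a 0 * e2 + a 1 * e0 + a 2 * e1 = 0 := by
      have := congrFun ha 1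
      simpa [f, P, r1, r2, r3] using this
    have q2 : a 0 * e1 + a 1 * e2 + a 2 * e0 = 0 := by
      have := congrFun ha 2
      simpa [f, P, r4, r5, r6] using this
    have hsum : e0 + e1 + e2 ≠ 0 := by
      have : B x (n (n y)) = e0 + e1 + e2 := by rw [hn2', map_add, map_add]; ring
      rwa [← this]
    have hT : a 0 + a 1 + a 2 = 0 := (mul_eq_zero.1 (show (a 0 + a 1 + a 2) * (e0 + e1 + e2) = 0 by
      linear_combination q0 + q1 + q2)).resolve_right hsum
    have h01 : (a 0 - a 1) * (e0 + e1 + e2) = 0 := by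
      linear_combination (q0 - q1) - (e2 - e1) * hT + (a 0 * e2 - a 1 * e1) * h3
    have h12 : (a 1 - a 2) * (e0 + e1 + e2) = 0 := by
      linear_combination (q1 - q2) - (e2 - e1) * hT + (a 1 * e2 - a 2 * e1) * h3
    have i01 := sub_eq_zero.1 ((mul_eq_zero.1 h01).resolve_right hsum)
    have i12 := sub_eq_zero.1 ((mul_eq_zero.1 h12).resolve_right hsum)
    have b0 : a 0 * (e0 + e1 + e2) = 0 := by
      linear_combination q0 + e1 * i01 + e2 * (i01 + i12)
    have a0 := (mul_eq_zero.1 b0).resolve_right hsum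
    funext i
    fin_cases i <;> simp_all
  obtain ⟨a, ha⟩ := LinearMap.injective_iff_surjective.1 hfi ![1, 0, 0]
  set z := P a with hz
  have z0 : B x z = 1 := congrFun ha 0
  have z1 : B (u x) z = 0 := congrFun ha 1
  have z2 : B (u (u x)) z = 0 := congrFun ha 2
  have hzu : B z (u z) = 0 := by
    show B (a 0 • y + a 1 • u y + a 2 • u (u y)) (u (a 0 • y + a 1 • u y + a 2 • u (u y))) = 0
    simp [map_add, map_smul, hu3, hyu, hy1, hy2, (show ∀ w, B w w = 0 from hA), hA.isRefl _ _ hyu, hA.isRefl _ _ hy1, hA.isRefl _ _ hy2]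
  obtain ⟨hz1, hz2⟩ := orb z hzu
  have z3 : B x (u z) = 0 := by rw [← hu3 x, hiso, z2]
  have z4 : B x (u (u z)) = 0 := by rw [← hu3 x, hiso, hiso, z1]
  have sym : ∀ a b : V, ∀ t, B a b = t → B b a = -t := fun a b t e => by rw [alt_swap hA, e]
  refine ⟨![x, u x, u (u x), z, u z, u (u z)], fun i j => ?_, fun i => ?_⟩
  · fin_cases i <;> fin_cases j <;>
      simp [gramPair, (show ∀ w, B w w = 0 from hA), hiso, hxu, hx1, hx2, hzu, hz1, hz2, z0, z1, z2, z3, z4, sym _ _ _ hxu, sym _ _ _ hx1,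
        sym _ _ _ hx2, sym _ _ _ hzu, sym _ _ _ hz1, sym _ _ _ hz2, sym _ _ _ z0, sym _ _ _ z1, sym _ _ _ z2,
        sym _ _ _ z3, sym _ _ _ z4]
  · have hG : ∀ w, G w = ε • u w := fun w => by simp [hu, smul_smul, hε]
    fin_cases i <;> simp [Fin.sum_univ_six, actPair, hG, hu3]

end CfsgLib.KnownA.NormalCover.Sp6
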