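import Cfsg.Agent.Lib.KnownA.NormalCover.Sp6.Frames

/-!
# Semilinear isometries over the cubic extension
-/

set_option autoImplicit false
set_option linter.unusedSectionVars false

open Module Polynomial

namespace CfsgLib.KnownA.NormalCover.Sp6

variable {F : Type*} [Field F] [Fintype F] {φ : F[X]} [Fact (Irreducible φ)]

/-- The trace form on pairs. -/
noncomputable def modelForm (φ : F[X]) [Fact (Irreducible φ)] :
    (Fin 2 → AdjoinRoot φ) →ₗ[F] (Fin 2 → AdjoinRoot φ) →ₗ[F] F :=
  detForm (Algebra.trace F (AdjoinRoot φ))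

instance instFiniteDimensionalModel : FiniteDimensional F (AdjoinRoot φ) :=
  (AdjoinRoot.powerBasis (Fact.out : Irreducible φ).ne_zero).finite

instance instFiniteModel : Finite (AdjoinRoot φ) := Module.finite_of_finite F

theorem finrank_model (hd : φ.natDegree = 3) : finrank F (AdjoinRoot φ) = 3 := by
  rw [(AdjoinRoot.powerBasis (Fact.out : Irreducible φ).ne_zero).finrank, AdjoinRoot.powerBasis_dim, hd]

theorem modelForm_isAlt : (modelForm φ).IsAlt := fun z => by
  rw [modelForm, detForm_apply, show z 0 * z 1 - z 1 * z 0 = 0 by ring, map_zero]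

theorem trace_surjective_model : ∃ l : AdjoinRoot φ, Algebra.trace F (AdjoinRoot φ) l = 1 :=
  Algebra.trace_surjective F (AdjoinRoot φ) 1

theorem modelForm_nondegenerate : (modelForm φ).Nondegenerate := by
  have hl : ∀ z, (∀ w, modelForm φ z w = 0) → z = 0 := by
    intro z hz
    have key : ∀ k : AdjoinRoot φ, (∀ r, Algebra.trace F (AdjoinRoot φ) (k * r) = 0) → k = 0 := fun k hk =>
      (traceForm_nondegenerate F (AdjoinRoot φ)).1 k fun r => by rw [Algebra.traceForm_apply]; exact hk r
    funext i
    fin_cases i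
    · refine key (z 0) fun r => ?_
      have := hz ![0, r]
      simpa [modelForm, detForm_apply] using this
    · refine key (z 1) fun r => ?_
      have := hz ![-r, 0]
      simpa [modelForm, detForm_apply] using this
  exact ⟨hl, fun w hw => hl w fun z => modelForm_isAlt.isRefl _ _ (hw z)⟩

/-- The Frobenius of the cubic extension. -/
noncomputable def frob (φ : F[X]) [Fact (Irreducible φ)] : AdjoinRoot φ ≃ₐ[F] AdjoinRoot φ :=
  FiniteField.frobeniusAlgEquivOfAlgebraic F (AdjoinRoot φ)

variable (hd : φ.natDegree = 3)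
include hd

theorem frob_cube (z : AdjoinRoot φ) : frob φ (frob φ (frob φ z)) = z := by
  have h : frob φ ^ 3 = 1 := by
    rw [frob, ← finrank_model hd, ← FiniteField.orderOf_frobeniusAlgEquivOfAlgebraic F (AdjoinRoot φ)]
    exact pow_orderOf_eq_one _
  exact DFunLike.congr_fun h z

theorem trace_eq (z : AdjoinRoot φ) :
    algebraMap F (AdjoinRoot φ) (Algebra.trace F (AdjoinRoot φ) z) = z + frob φ z + frob φ (frob φ z) := by
  rw [FiniteField.algebraMap_trace_eq_sum_pow, finrank_model hd, Finset.sum_range_succ, Finset.sum_range_succ,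
    Finset.sum_range_one, pow_zero, pow_one, pow_one, Nat.card_eq_fintype_card]
  simp only [frob, FiniteField.coe_frobeniusAlgEquivOfAlgebraic]
  rw [← pow_mul, ← sq]

theorem trace_frob (z : AdjoinRoot φ) :
    Algebra.trace F (AdjoinRoot φ) (frob φ z) = Algebra.trace F (AdjoinRoot φ) z := by
  refine (algebraMap F (AdjoinRoot φ)).injective ?_
  rw [trace_eq hd, trace_eq hd, frob_cube hd]
  ring

omit hd in
/-- A semilinear map of pairs. -/
noncomputable def sl (a b c d : AdjoinRoot φ) : Module.End F (Fin 2 → AdjoinRoot φ) where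
  toFun z := ![a * frob φ (z 0) + b * frob φ (z 1), c * frob φ (z 0) + d * frob φ (z 1)]
  map_add' z w := by funext i; fin_cases i <;> simp [mul_add] <;> abel
  map_smul' s z := by funext i; fin_cases i <;> simp [mul_smul_comm, smul_add]

omit hd in
theorem sl_apply (a b c d : AdjoinRoot φ) (z : Fin 2 → AdjoinRoot φ) :
    sl a b c d z = ![a * frob φ (z 0) + b * frob φ (z 1), c * frob φ (z 0) + d * frob φ (z 1)] := rfl

theorem exists_pair_sl {a b c d : AdjoinRoot φ} (hdet : a * d - b * c = 1) :
    ∃ Gi, IsPair (modelForm φ) (sl a b c d) Gi := by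
  have hiso : ∀ z w, modelForm φ (sl a b c d z) (sl a b c d w) = modelForm φ z w := fun z w => by
    simp only [modelForm, detForm_apply, sl_apply]
    rw [← trace_frob hd (z 0 * w 1 - z 1 * w 0)]
    congr 1
    simp only [map_sub, map_mul, Matrix.cons_val_zero, Matrix.cons_val_one]
    linear_combination (frob φ (z 0) * frob φ (w 1) - frob φ (z 1) * frob φ (w 0)) * hdet
  have hinj : Function.Injective (sl a b c d) := by
    refine (injective_iff_map_eq_zero _).2 fun z hz => modelForm_nondegenerate.1 z fun w => ?_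
    rw [← hiso, hz, map_zero, LinearMap.zero_apply]
  let e := LinearEquiv.ofBijective (sl a b c d) ⟨hinj, LinearMap.injective_iff_surjective.1 hinj⟩
  exact ⟨_, isPair_of_mem (⟨e, hiso⟩ : CfsgLib.Classical.isomGroup (modelForm φ))⟩

theorem semi_sl (a b c d : AdjoinRoot φ) : Semi (modelForm φ) φ (sl a b c d) := by
  let ρ : AdjoinRoot φ →ₐ[F] Module.End F (Fin 2 → AdjoinRoot φ) := Algebra.lsmul F F (Fin 2 → AdjoinRoot φ)
  obtain ⟨r, hr⟩ := AdjoinRoot.mk_surjective (frob φ (AdjoinRoot.root φ))
  refine ⟨ρ (AdjoinRoot.root φ), ?_, fun z w => ?_, r, ?_⟩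
  · rw [aeval_algHom_apply, AdjoinRoot.aeval_eq, AdjoinRoot.mk_self, map_zero]
  · simp only [ρ, Algebra.lsmul_coe, modelForm, detForm_apply, Pi.smul_apply, smul_eq_mul]
    congr 1
    ring
  · rw [aeval_algHom_apply, AdjoinRoot.aeval_eq, hr]
    refine LinearMap.ext fun z => ?_
    funext i
    fin_cases i <;> simp [ρ, sl_apply] <;> ring

variable (h3 : (3 : F) = 0)
include h3

theorem pow_three_sub_one {U : Module.End F (Fin 2 → AdjoinRoot φ)} : (U - 1) ^ 3 = U ^ 3 - 1 := by
  have e : ((X : F[X]) - 1) ^ 3 = X ^ 3 - 1 := by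
    have : (3 : F[X]) = 0 := by rw [← C_ofNat, h3, C_0]
    linear_combination (X - X ^ 2) * this
  simpa using congrArg (aeval U) e

omit hd in
theorem three_eq_zero : (3 : AdjoinRoot φ) = 0 := by
  rw [← map_ofNat (algebraMap F (AdjoinRoot φ)), h3, map_zero]

theorem exists_trace_one : ∃ l : AdjoinRoot φ, l + frob φ l + frob φ (frob φ l) = 1 ∧
    Algebra.trace F (AdjoinRoot φ) (l * frob φ l - l * l) = -1 := by
  obtain ⟨l, hl⟩ := trace_surjective_model (φ := φ)
  have hs : l + frob φ l + frob φ (frob φ l) = 1 := by rw [← trace_eq hd, hl, map_one]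
  refine ⟨l, hs, (algebraMap F (AdjoinRoot φ)).injective ?_⟩
  rw [trace_eq hd]
  simp only [map_sub, map_mul, frob_cube hd, map_neg, map_one]
  linear_combination -(l + frob φ l + frob φ (frob φ l) + 1) * hs +
    (l * frob φ l + frob φ l * frob φ (frob φ l) + frob φ (frob φ l) * l) * three_eq_zero (φ := φ) h3

/-- A model for every non-degenerate cyclic type. -/
theorem exists_model_cyclic (c ν : F) :
    ∃ (G Gi N : Module.End F (Fin 2 → AdjoinRoot φ)) (x : Fin 2 → AdjoinRoot φ), IsPair (modelForm φ) G Gi ∧
      N = G + Gi - algebraMap F _ c ∧ N ^ 3 = 0 ∧ modelForm φ ((N ^ 2) x) (G x) = ν ∧ Semi (modelForm φ) φ G := by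
  classical
  have h2 : (2 : F) ≠ 0 := fun e => one_ne_zero (α := F) (by linear_combination h3 - e)
  set B := modelForm φ
  set al := algebraMap F (AdjoinRoot φ)
  have hal : ∀ t : F, frob φ (al t) = al t := fun t => AlgEquiv.commutes _ t
  obtain ⟨l, hl, hlQ⟩ := exists_trace_one hd h3
  have htr : Algebra.trace F (AdjoinRoot φ) l = 1 := by
    refine al.injective ?_
    rw [trace_eq hd, hl, map_one]
  -- enough to control the element `G² - cG + 1`
  have key : ∀ G : Module.End F (Fin 2 → AdjoinRoot φ), (∃ Gi, IsPair B G Gi) → Semi B φ G →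
      (G * G - c • G + 1) ^ 3 = 0 → (∃ x, B (((G * G - c • G + 1) ^ 2 : Module.End F (Fin 2 → AdjoinRoot φ)) x) ((G ^ 3) x) = ν) →
      ∃ (G Gi N : Module.End F (Fin 2 → AdjoinRoot φ)) (x : Fin 2 → AdjoinRoot φ), IsPair B G Gi ∧
        N = G + Gi - algebraMap F _ c ∧ N ^ 3 = 0 ∧ B ((N ^ 2) x) (G x) = ν ∧ Semi B φ G := by
    rintro G ⟨Gi, hp⟩ hs h0 ⟨x, hx⟩
    set N := G + Gi - algebraMap F _ c with hN
    have hc : Commute G N := hp.commute.sub_right (Algebra.commute_algebraMap_right c G)
    have hNG : N * G = G * G - c • G + 1 := by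
      rw [hN, sub_mul, add_mul, hp.inv_mul, ← Algebra.smul_def]
      abel
    have hN3 : N ^ 3 = 0 := by
      have h := congrArg (· * Gi ^ 3) h0
      simp only [← hNG, hc.symm.mul_pow, mul_assoc, zero_mul] at h
      rwa [← (show Commute G Gi from hp.mul_inv.trans hp.inv_mul.symm).mul_pow, hp.mul_inv, one_pow, mul_one] at h
    refine ⟨G, Gi, N, x, hp, rfl, hN3, ?_, hs⟩
    rw [← hx, ← hNG, hc.symm.mul_pow, ← hp.isometry, ← hp.isometry, (hc.symm.pow_pow 2 2).eq]
    simp only [pow_succ, pow_zero, one_mul, Module.End.mul_apply]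
  by_cases hc : c ^ 2 = 4
  · -- regular unipotent, up to sign
    set ε := -c with hεdef
    have hε : ε * ε = 1 := by rw [hεdef]; linear_combination hc + h3
    have hc' : c = 2 * ε := by rw [hεdef]; linear_combination c * h3
    set νa := -(ε * ν) with hνa
    set a : AdjoinRoot φ := al νa * l
    set G := sl (al ε) (al ε * a) 0 (al ε)
    set U := ε • G with hU
    have hUa : ∀ z, U z = ![frob φ (z 0) + a * frob φ (z 1), frob φ (z 1)] := fun z => by
      have e : al ε * al ε = 1 := by rw [← map_mul, hε, map_one]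
      rw [hU, LinearMap.smul_apply, sl_apply]
      funext i
      rw [Pi.smul_apply, Algebra.smul_def]
      fin_cases i <;> simp only [Fin.zero_eta, Fin.mk_one, Matrix.cons_val_zero, Matrix.cons_val_one]
      · linear_combination (frob φ (z 0) + a * frob φ (z 1)) * e
      · linear_combination frob φ (z 1) * e
    have hU3 : ∀ z, (U ^ 3) z = ![z 0 + al νa * z 1, z 1] := fun z => by
      simp only [pow_succ, pow_zero, one_mul, Module.End.mul_apply, hUa]
      funext i
      fin_cases i <;> simp [a, frob_cube hd, hal]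
      linear_combination (al νa * z 1) * hl
    have hP : G * G - c • G + 1 = (U - 1) ^ 2 := by
      rw [hU, hc']
      simp only [pow_two, sub_mul, mul_sub, one_mul, mul_one, smul_mul_smul_comm, hε, one_smul, two_mul, add_smul]
      abel
    obtain ⟨Gi, hp⟩ := exists_pair_sl hd (a := al ε) (b := al ε * a) (c := 0) (d := al ε)
      (by rw [mul_zero, sub_zero, ← map_mul, hε, map_one])
    refine key G ⟨Gi, hp⟩ (semi_sl hd _ _ _ _) ?_ ⟨![0, l], ?_⟩
    · rw [hP, ← pow_mul, mul_comm, pow_mul, pow_three_sub_one hd h3]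
      have e : ∀ z : Fin 2 → AdjoinRoot φ, (U ^ 3 - 1 : Module.End F (Fin 2 → AdjoinRoot φ)) z = ![al νa * z 1, 0] := fun z => by
        rw [LinearMap.sub_apply, hU3, Module.End.one_apply]
        funext i
        fin_cases i <;> simp
      refine LinearMap.ext fun z => ?_
      rw [pow_two, Module.End.mul_apply, e, e, LinearMap.zero_apply]
      funext i
      fin_cases i <;> simp
    · have hG3 : G ^ 3 = ε • U ^ 3 := by
        rw [hU, _root_.smul_pow, smul_smul, show ε * ε ^ 3 = 1 by linear_combination (ε * ε + 1) * hε, one_smul]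
      rw [hP, ← pow_mul, show 2 * 2 = 1 + 3 by rfl, pow_add, pow_one, pow_three_sub_one hd h3, hG3]
      have e1 : (U - 1) ((U ^ 3 - 1 : Module.End F (Fin 2 → AdjoinRoot φ)) ![0, l]) = ![al νa * (frob φ l - l), 0] := by
        simp only [LinearMap.sub_apply, Module.End.one_apply, hU3, hUa]
        funext i
        fin_cases i <;> simp [hal] <;> ring
      have e2 : (ε • U ^ 3) ![0, l] = ![al ε * (al νa * l), al ε * l] := by
        rw [LinearMap.smul_apply, hU3]
        funext i
        rw [Pi.smul_apply, Algebra.smul_def]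
        fin_cases i <;> simp [al]
      rw [Module.End.mul_apply, e1, e2]
      simp only [B, modelForm, detForm_apply, Matrix.cons_val_zero, Matrix.cons_val_one]
      rw [show ν = Algebra.trace F (AdjoinRoot φ) ((ε * νa) • (l * frob φ l - l * l)) by
        rw [map_smul, hlQ, hνa, smul_eq_mul]; linear_combination (-ν) * hε]
      congr 1
      simp only [Algebra.smul_def, map_mul]
      ring
  · -- the product of a matrix over `F` and the Frobenius
    obtain ⟨w0, w1, hw⟩ : ∃ a b : F, (c ^ 2 - 4) * (a * (a + c * b) + b * b) = ν := by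
      have hne : c ^ 2 - 4 ≠ 0 := sub_ne_zero.2 hc
      have hd0 : 1 - c ^ 2 / 4 ≠ 0 := by
        intro e
        refine hne ?_
        have h4 : (4 : F) ≠ 0 := by
          rw [show (4 : F) = 2 * 2 by norm_num]; exact mul_ne_zero h2 h2
        field_simp at e
        linear_combination -e
      have hodd : Fintype.card F % 2 = 1 := by
        rcases Nat.mod_two_eq_zero_or_one (Fintype.card F) with e | e
        · exfalso
          haveI : CharP F 2 := ringChar.of_eq (FiniteField.even_card_iff_char_two.2 e)
          exact h2 (CharTwo.two_eq_zero)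
        · exact e
      obtain ⟨s, t, hst⟩ := FiniteField.exists_root_sum_quadratic
        (f := X ^ 2) (g := C (1 - c ^ 2 / 4) * X ^ 2 - C (ν / (c ^ 2 - 4)))
        (by simp) (by
          refine (degree_sub_eq_left_of_degree_lt ?_).trans (degree_C_mul_X_pow 2 hd0)
          rw [degree_C_mul_X_pow 2 hd0]
          exact lt_of_le_of_lt degree_C_le (by decide)) hodd
      refine ⟨s - c / 2 * t, t, ?_⟩
      simp at hst
      have e : s ^ 2 + (1 - c ^ 2 / 4) * t ^ 2 = ν / (c ^ 2 - 4) := by linear_combination hst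
      have h4 : (4 : F) ≠ 0 := by
        rw [show (4 : F) = 2 * 2 by norm_num]; exact mul_ne_zero h2 h2
      calc _ = (c ^ 2 - 4) * (s ^ 2 + (1 - c ^ 2 / 4) * t ^ 2) := by
            congr 1
            field_simp
            ring
        _ = ν := by rw [e, mul_div_cancel₀ _ hne]
    set A := sl (0 : AdjoinRoot φ) (-1) 1 (al c) with hAdef
    obtain ⟨Gi, hp⟩ := exists_pair_sl hd (a := (0 : AdjoinRoot φ)) (b := -1) (c := 1) (d := al c) (by ring)
    let A0 : Module.End F (Fin 2 → AdjoinRoot φ) :=
      { toFun := fun z => ![-z 1, z 0 + al c * z 1]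
        map_add' := fun z w => by funext i; fin_cases i <;> simp [mul_add] <;> abel
        map_smul' := fun s z => by funext i; fin_cases i <;> simp [mul_smul_comm, smul_add] }
    set S := sl (1 : AdjoinRoot φ) 0 0 1 with hSdef
    have hS : ∀ z, S z = ![frob φ (z 0), frob φ (z 1)] := fun z => by simp [hSdef, sl_apply]
    have hA0 : ∀ z, A0 z = ![-z 1, z 0 + al c * z 1] := fun z => rfl
    have hG : A = A0 * S := LinearMap.ext fun z => by
      rw [Module.End.mul_apply, hS, hA0, hAdef, sl_apply]; funext i; fin_cases i <;> simp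
    have hAS : Commute A0 S := LinearMap.ext fun z => by
      simp only [Module.End.mul_apply, hS, hA0]
      funext i; fin_cases i <;> simp [hal]
    have hA2 : A0 * A0 = c • A0 - 1 := LinearMap.ext fun z => by
      simp only [Module.End.mul_apply, LinearMap.sub_apply, LinearMap.smul_apply, Module.End.one_apply, hA0]
      funext i; fin_cases i <;> simp [Algebra.smul_def, al] <;> ring
    have hS3 : S ^ 3 = 1 := LinearMap.ext fun z => by
      simp only [pow_succ, pow_zero, one_mul, Module.End.mul_apply, hS, Module.End.one_apply]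
      funext i; fin_cases i <;> simp [frob_cube hd]
    set R := c • (A0 * S) - S - 1 with hR
    have hP : A * A - c • A + 1 = (S - 1) * R := by
      rw [hG, show A0 * S * (A0 * S) = A0 * A0 * (S * S) by rw [mul_assoc, ← mul_assoc S, ← hAS.eq]; simp [mul_assoc],
        hA2, hR]
      simp only [mul_sub, sub_mul, one_mul, mul_one, smul_mul_assoc, mul_smul_comm, ← mul_assoc, ← hAS.eq]
      module
    have hcomm : Commute (S - 1) R := by
      rw [hR]
      exact ((((hAS.symm.mul_right (Commute.refl S)).smul_right c).sub_right (Commute.refl S)).sub_right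
        (Commute.one_right S)).sub_left (Commute.one_left _)
    have hS0 : (S - 1) ^ 3 = 0 := by rw [pow_three_sub_one hd h3, hS3, sub_self]
    refine key A ⟨Gi, hp⟩ (semi_sl hd _ _ _ _) ?_ ⟨![al w0 * l, al w1 * l], ?_⟩
    · rw [hP, hcomm.mul_pow, hS0, zero_mul]
    · have hS2 : ((S - 1) ^ 2 : Module.End F (Fin 2 → AdjoinRoot φ)) ![al w0 * l, al w1 * l] = ![al w0, al w1] := by
        simp only [pow_two, Module.End.mul_apply, LinearMap.sub_apply, map_sub, Module.End.one_apply, hS]
        funext i
        fin_cases i <;> simp [hal]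
        · linear_combination (al w0) * hl - (al w0 * frob φ l) * three_eq_zero (φ := φ) h3
        · linear_combination (al w1) * hl - (al w1 * frob φ l) * three_eq_zero (φ := φ) h3
      have hRW : ∀ a b : F, R ![al a, al b] = ![al (-(c * b) - 2 * a), al (c * (a + c * b) - 2 * b)] := fun a b => by
        simp only [hR, LinearMap.sub_apply, LinearMap.smul_apply, Module.End.mul_apply, Module.End.one_apply, hS, hA0]
        funext i
        rw [Pi.sub_apply, Pi.sub_apply, Pi.smul_apply, Algebra.smul_def]
        fin_cases i <;> simp only [Fin.zero_eta, Fin.mk_one, Matrix.cons_val_zero, Matrix.cons_val_one, hal, map_sub,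
          map_mul, map_add, map_neg, map_ofNat]
        · ring
        · ring
      have hAW : ∀ a b : F, (A0 ^ 3 : Module.End F (Fin 2 → AdjoinRoot φ)) ![al a * l, al b * l] =
          ![al (-(-b + c * (a + c * b))) * l, al (-(a + c * b) + c * (-b + c * (a + c * b))) * l] := fun a b => by
        simp only [pow_succ, pow_zero, one_mul, Module.End.mul_apply, hA0]
        funext i
        fin_cases i <;> simp only [Fin.zero_eta, Fin.mk_one, Matrix.cons_val_zero, Matrix.cons_val_one, map_sub,
          map_mul, map_add, map_neg]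
        · ring
        · ring
      rw [hP, hcomm.mul_pow, (hcomm.pow_pow 2 2).eq, Module.End.mul_apply, hS2, hG, hAS.mul_pow, hS3, mul_one,
        pow_two R, Module.End.mul_apply, hRW, hRW, hAW]
      simp only [B, modelForm, detForm_apply, Matrix.cons_val_zero, Matrix.cons_val_one]
      rw [show ν = Algebra.trace F (AdjoinRoot φ) (ν • l) by rw [map_smul, htr, smul_eq_mul, mul_one], ← hw]
      congr 1
      simp only [Algebra.smul_def, map_sub, map_mul, map_add, map_neg, map_ofNat, map_pow]
      ring

/-- A model with two Lagrangian cycles. -/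
theorem exists_model_pair {ε : F} (hε : ε * ε = 1) :
    ∃ (G Gi n : Module.End F (Fin 2 → AdjoinRoot φ)), IsPair (modelForm φ) G Gi ∧ n = ε • G - 1 ∧ n ^ 3 = 0 ∧
      n ^ 2 ≠ 0 ∧ Semi (modelForm φ) φ G := by
  set al := algebraMap F (AdjoinRoot φ)
  obtain ⟨l, hl, -⟩ := exists_trace_one hd h3
  obtain ⟨Gi, hp⟩ := exists_pair_sl hd (a := al ε) (b := 0) (c := 0) (d := al ε)
    (by rw [mul_zero, sub_zero, ← map_mul, hε, map_one])
  set G := sl (al ε) 0 0 (al ε) with hG
  set U := ε • G with hU
  have hUa : ∀ z, U z = ![frob φ (z 0), frob φ (z 1)] := fun z => by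
    rw [hU, LinearMap.smul_apply, hG, sl_apply]
    funext i
    fin_cases i <;> simp [al, Algebra.smul_def, ← mul_assoc, ← map_mul, hε]
  refine ⟨G, Gi, U - 1, hp, by rw [hU], ?_, fun h0 => ?_, semi_sl hd _ _ _ _⟩
  · rw [pow_three_sub_one hd h3, sub_eq_zero]
    refine LinearMap.ext fun z => ?_
    simp only [pow_succ, pow_zero, one_mul, Module.End.mul_apply, hUa, Module.End.one_apply]
    funext i; fin_cases i <;> simp [frob_cube hd]
  · have h := congrFun (LinearMap.congr_fun h0 ![l, 0]) 0
    simp only [pow_two, Module.End.mul_apply, LinearMap.sub_apply, map_sub, Module.End.one_apply, hUa] at h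
    simp at h
    exact one_ne_zero (α := AdjoinRoot φ) (by linear_combination h - hl + frob φ l * three_eq_zero (φ := φ) h3)

end CfsgLib.KnownA.NormalCover.Sp6
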